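import Cfsg.Agent.AltNineThree.Facts

/-!
# Orbits on the elementary abelian subgroup
-/

set_option autoImplicit false

namespace CfsgLib.AltNineThree

open CfsgLib.TISylowThree (D)

set_option maxRecDepth 100000
set_option synthInstance.maxHeartbeats 200000
set_option synthInstance.maxSize 1024

/-- The number of elements commuting with an element. -/
def centCard (a : M) : ℕ := (Finset.univ.filter fun x : M => x * a = a * x).card

theorem centCard_rep : centCard eOne = 108 ∧ centCard eMix = 54 ∧ centCard eAll = 81 := by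
  decide +kernel

theorem cls_one : cls 1 = 0 := by decide +kernel

theorem cls_eMix : cls eOne = 1 ∧ cls eMix = 11 ∧ cls eAll = 13 := by decide +kernel

theorem E_conj_rep (a : M) (ha : IsE a) (h1 : a ≠ 1) : ∃ h : M,
    h * eOne * h⁻¹ = a ∨ h * eMix * h⁻¹ = a ∨ h * eAll * h⁻¹ = a := by
  obtain ⟨c1, c2, c3⟩ := cls_eMix
  rcases (isE_iff a).1 ha with e | e | e | e
  · obtain ⟨x, hx⟩ := conj_of_cls (a := (1 : M)) (b := a)
      (by rw [e]; exact cls_one)
    exact absurd (by simpa using hx.symm) h1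
  · obtain ⟨x, hx⟩ := conj_of_cls (c1.trans e.symm); exact ⟨x, Or.inl hx⟩
  · obtain ⟨x, hx⟩ := conj_of_cls (c2.trans e.symm); exact ⟨x, Or.inr (Or.inl hx)⟩
  · obtain ⟨x, hx⟩ := conj_of_cls (c3.trans e.symm); exact ⟨x, Or.inr (Or.inr hx)⟩

theorem three_core : ∀ x : M, ¬ IsE x → nine x = 1 → ∃ y : M,
    nine (x * (y * x * y⁻¹)) ≠ 1 ∨ nine (x * (y * (x * x) * y⁻¹)) ≠ 1 := by decide +kernel

end CfsgLib.AltNineThree
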