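import Cfsg.Agent.AltNineThree.Facts

/-!
# Generators of the group of order `648`
-/

set_option autoImplicit false

namespace CfsgLib.AltNineThree

open CfsgLib.TISylowThree (D sgnHom act)

set_option maxRecDepth 100000

/-- The non-trivial linear character. -/
def sign (m : M) : ℤ := (sgnHom m.1.right : ℤ)

theorem gen_rel : tOne * (gThree * tOne * gThree⁻¹) = gThree * gThree * tOne * (gThree * gThree)⁻¹ ∧
    tTwo * gThree * tTwo * gThree = gThree * tOne * gThree⁻¹ ∧ gThree * gThree * gThree = 1 ∧
    tOne * eOne * tOne = eOne * eOne ∧ sign tTwo = -1 ∧ sign 1 = 1 := by decide +kernel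

theorem sign_mul (x y : M) : sign (x * y) = sign x * sign y := by simp [sign]

theorem V_two_sign : ∑ m : M, sign m • V 2 m = (0, 0) := by decide +kernel

theorem hom_eq (f : M →* ℂˣ) :
    (∀ m, (f m : ℂ) = 1) ∨ ∀ m, (f m : ℂ) = (sign m : ℂ) := by
  obtain ⟨r1, r2, r3, r4, r5, r6⟩ := gen_rel
  have ht : f tOne = 1 := by
    have h := congrArg f r1
    simp only [map_mul, map_inv] at h
    rw [mul_comm (f gThree) (f tOne), mul_inv_cancel_right,
      mul_comm (f gThree * f gThree) (f tOne), mul_inv_cancel_right] at h
    simpa using h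
  have h2 : f tTwo * f tTwo = 1 := by
    rw [← map_mul, show tTwo * tTwo = 1 from tOne_spec.2.2.2.1, map_one]
  have hg : f gThree = 1 := by
    have h := congrArg f r2
    rw [map_mul, map_mul, map_mul, map_mul, map_mul, map_inv, ht, mul_one, mul_inv_cancel,
      mul_comm (f tTwo) (f gThree), mul_assoc (f gThree), h2, mul_one] at h
    have h' := congrArg f r3
    rwa [map_one, map_mul, map_mul, h, one_mul] at h'
  have he : f eOne = 1 := by
    have h := congrArg f r4
    simp only [map_mul, ht, one_mul, mul_one] at h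
    simpa using h
  have hm : ∀ m, f m = f tTwo ^ expF m.1.right ∧ sign m = (-1) ^ expF m.1.right := fun m => by
    constructor
    · conv_lhs => rw [word_eq m]
      simp [word, he, ht, hg]
    · rcases m with ⟨⟨a, p⟩, h⟩
      cases p <;> rfl
  rcases mul_self_eq_one_iff.1 (show (f tTwo : ℂ) * f tTwo = 1 by
    rw [← Units.val_mul, h2, Units.val_one]) with e | e
  · exact Or.inl fun m => by rw [(hm m).1, Units.val_pow_eq_pow_val, e, one_pow]
  · exact Or.inr fun m => by
      rw [(hm m).1, (hm m).2, Units.val_pow_eq_pow_val, e]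
      push_cast
      rfl

end CfsgLib.AltNineThree
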