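import Cfsg.Agent.TISylowThree.Signed

/-!
# The supports of five signed vectors of small norm
-/

set_option autoImplicit false
set_option linter.unusedSectionVars false

namespace CfsgLib.AltNineThree

open TISylowThree (IsPair)

variable {ι : Type*} [Fintype ι]

/-- A vector of norm three: three entries `±1`. -/
structure IsTriple (v : ι → ℤ) (p q r : ι) : Prop where
  pq : p ≠ q
  pr : p ≠ r
  qr : q ≠ r
  hp : v p = 1 ∨ v p = -1
  hq : v q = 1 ∨ v q = -1
  hr : v r = 1 ∨ v r = -1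
  zero : ∀ i, i ≠ p → i ≠ q → i ≠ r → v i = 0

namespace IsTriple

variable {v : ι → ℤ} {p q r : ι}

theorem rot (h : IsTriple v p q r) : IsTriple v q r p :=
  ⟨h.qr, h.pq.symm, h.pr.symm, h.hq, h.hr, h.hp, fun i a b c => h.zero i c a b⟩

theorem swap (h : IsTriple v p q r) : IsTriple v q p r :=
  ⟨h.pq.symm, h.qr, h.pr, h.hq, h.hp, h.hr, fun i a b c => h.zero i b a c⟩

theorem sum_mul (h : IsTriple v p q r) {R : Type*} [CommRing R] (g : ι → R) :
    ∑ i, (v i : R) * g i = v p * g p + v q * g q + v r * g r := by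
  classical
  rw [← Finset.sum_subset (Finset.subset_univ ({p, q, r} : Finset ι)) fun i _ hi => ?_,
    Finset.sum_insert (by simp [h.pq, h.pr]), Finset.sum_pair h.qr, add_assoc]
  simp only [Finset.mem_insert, Finset.mem_singleton, not_or] at hi
  simp [h.zero i hi.1 hi.2.1 hi.2.2]

theorem sum_mul_int (h : IsTriple v p q r) (g : ι → ℤ) :
    ∑ i, v i * g i = v p * g p + v q * g q + v r * g r := by
  simpa using h.sum_mul (R := ℤ) g

theorem mem_cases (h : IsTriple v p q r) {i : ι} (hi : v i ≠ 0) : i = p ∨ i = q ∨ i = r := by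
  by_contra hc
  push Not at hc
  exact hi (h.zero i hc.1 hc.2.1 hc.2.2)

theorem front (h : IsTriple v p q r) {x : ι} (hx : v x ≠ 0) : ∃ a b, IsTriple v x a b := by
  rcases h.mem_cases hx with rfl | rfl | rfl
  exacts [⟨_, _, h⟩, ⟨_, _, h.rot⟩, ⟨_, _, h.rot.rot⟩]

theorem of_two (h : IsTriple v p q r) {x y : ι} (hx : v x ≠ 0) (hy : v y ≠ 0) (hxy : x ≠ y) :
    ∃ a, IsTriple v a x y := by
  obtain ⟨a, b, h'⟩ := h.front hx
  rcases h'.mem_cases hy with e | e | e
  · exact absurd e.symm hxy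
  · subst e; exact ⟨b, h'.rot.rot⟩
  · subst e; exact ⟨a, h'.swap⟩

end IsTriple

theorem exists_triple (v : ι → ℤ) (h : ∑ i, v i ^ 2 = 3) : ∃ p q r, IsTriple v p q r := by
  classical
  have hb : ∀ i, v i ≠ 0 → v i = 1 ∨ v i = -1 := fun i hi => by
    have := Finset.single_le_sum (f := fun i => v i ^ 2) (fun i _ => sq_nonneg _) (Finset.mem_univ i)
    rw [h] at this
    have : -1 ≤ v i ∧ v i ≤ 1 := ⟨by nlinarith, by nlinarith⟩
    omega
  have hcard : (Finset.univ.filter fun i => v i ≠ 0).card = 3 := by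
    have : ((Finset.univ.filter fun i => v i ≠ 0).card : ℤ) = 3 := by
      rw [← h, ← Finset.sum_filter_ne_zero (f := fun i => v i ^ 2),
        Finset.card_eq_sum_ones, Nat.cast_sum]
      refine Finset.sum_congr (Finset.filter_congr fun i _ => by simp) fun i hi => ?_
      rcases hb i (by simpa using hi) with e | e <;> simp [e]
    exact_mod_cast this
  obtain ⟨p, q, r, hpq, hpr, hqr, hs⟩ := Finset.card_eq_three.1 hcard
  have hm : ∀ i, v i ≠ 0 ↔ i = p ∨ i = q ∨ i = r := fun i => by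
    simpa using Finset.ext_iff.1 hs i
  refine ⟨p, q, r, hpq, hpr, hqr, hb p ((hm p).2 (by simp)), hb q ((hm q).2 (by simp)),
    hb r ((hm r).2 (by simp)), fun i h1 h2 h3 => ?_⟩
  by_contra hi
  simpa [h1, h2, h3] using (hm i).1 hi

/-- Two triples with product `±1` and almost proportional degrees share exactly one point. -/
theorem common {v w : ι → ℤ} {p q r : ι} (hv : IsTriple v p q r) (hw : ∑ i, w i ^ 2 = 3)
    (n : ι → ℤ) (hn : ∀ i, n i ≠ 0) {σ : ℤ} (hσ : σ = 1 ∨ σ = -1) (h : ∑ i, v i * w i = σ)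
    (hd : |∑ i, n i * v i - σ * ∑ i, n i * w i| ≤ 1) :
    ∃ x, v x * w x = σ ∧ ∀ i, i ≠ x → v i * w i = 0 := by
  classical
  rw [hv.sum_mul_int] at h
  obtain ⟨a, b, c, hw'⟩ := exists_triple w hw
  have hb : ∀ i, w i = 0 ∨ w i = 1 ∨ w i = -1 := fun i => by
    by_cases hi : w i = 0
    · exact Or.inl hi
    · rcases hw'.mem_cases hi with e | e | e <;> subst e
      exacts [Or.inr hw'.hp, Or.inr hw'.hq, Or.inr hw'.hr]
  have hmul : ∀ i, (v i = 1 ∨ v i = -1) → v i * w i = 0 ∨ v i * w i = 1 ∨ v i * w i = -1 := fun i hi => by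
    rcases hi with e | e <;> rcases hb i with f | f | f <;> simp [e, f]
  have hoff : ∀ i, i ≠ p → i ≠ q → i ≠ r → v i * w i = 0 := fun i h1 h2 h3 => by
    simp [hv.zero i h1 h2 h3]
  have one : ∀ {x y z : ι}, IsTriple v x y z → v y * w y = 0 → v z * w z = 0 →
      v x * w x + v y * w y + v z * w z = σ → ∃ x, v x * w x = σ ∧ ∀ i, i ≠ x → v i * w i = 0 := by
    intro x y z hv' hy hz hsum
    refine ⟨x, by omega, fun i hi => ?_⟩
    by_cases h1 : i = y
    · rw [h1, hy]
    by_cases h2 : i = z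
    · rw [h2, hz]
    · simp [hv'.zero i hi h1 h2]
  by_cases hp : v p * w p = 0
  · by_cases hq : v q * w q = 0
    · exact one hv.rot.rot hp hq (by linarith)
    · by_cases hr : v r * w r = 0
      · exact one hv.rot hr hp (by linarith)
      · exfalso
        have := hmul q hv.hq; have := hmul r hv.hr; omega
  by_cases hq : v q * w q = 0
  · by_cases hr : v r * w r = 0
    · exact one hv hq hr h
    · exfalso
      have := hmul p hv.hp; have := hmul r hv.hr; omega
  by_cases hr : v r * w r = 0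
  · exfalso
    have := hmul p hv.hp; have := hmul q hv.hq; omega
  exfalso
  have hwt : IsTriple w p q r := by
    obtain ⟨s, hs⟩ := hw'.of_two (right_ne_zero_of_mul hp) (right_ne_zero_of_mul hq) hv.pq
    rcases hs.mem_cases (right_ne_zero_of_mul hr) with e | e | e
    · exact (e ▸ hs).rot
    · exact absurd e.symm hv.pr
    · exact absurd e.symm hv.qr
  have e1 : ∑ i, n i * v i = v p * n p + v q * n q + v r * n r := by
    rw [← hv.sum_mul_int]; exact Finset.sum_congr rfl fun i _ => mul_comm _ _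
  have e2 : ∑ i, n i * w i = w p * n p + w q * n q + w r * n r := by
    rw [← hwt.sum_mul_int]; exact Finset.sum_congr rfl fun i _ => mul_comm _ _
  rw [e1, e2, abs_le] at hd
  have := hn p; have := hn q; have := hn r
  rcases hσ with rfl | rfl <;> rcases hv.hp with a1 | a1 <;> rcases hv.hq with a2 | a2 <;>
    rcases hv.hr with a3 | a3 <;> rcases hwt.hp with b1 | b1 <;> rcases hwt.hq with b2 | b2 <;>
    rcases hwt.hr with b3 | b3 <;> simp only [a1, a2, a3, b1, b2, b3] at h hd <;> omega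

/-- The hypotheses on the five vectors. -/
structure Data (n : ι → ℤ) (A g d b v : ι → ℤ) : Prop where
  hn : ∀ i, n i ≠ 0
  hA : ∑ i, A i ^ 2 = 2
  hg : ∑ i, g i ^ 2 = 3
  hd : ∑ i, d i ^ 2 = 3
  hb : ∑ i, b i ^ 2 = 3
  hv : ∑ i, v i ^ 2 = 3
  gd : ∑ i, g i * d i = -1
  gb : ∑ i, g i * b i = 1
  db : ∑ i, d i * b i = 1
  gv : ∑ i, g i * v i = 1
  dv : ∑ i, d i * v i = -1
  bv : ∑ i, b i * v i = 0
  Ag : ∑ i, g i * A i = -1
  Ad : ∑ i, d i * A i = 1
  Ab : ∑ i, b i * A i = 0
  Av : ∑ i, v i * A i = 0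
  ng : ∑ i, n i * g i = 0
  nd : ∑ i, n i * d i = 0
  nb : ∑ i, n i * b i = 1
  nv : ∑ i, n i * v i = -1
  nA : ∑ i, n i * A i = 0

/-- The points shared by `g`, `d`, `b`. -/
structure Core (g d b : ι → ℤ) (X a ξ Y Z E : ι) : Prop where
  g_tri : IsTriple g X a ξ
  d_tri : IsTriple d a Y Z
  b_tri : IsTriple b X Y E
  ga : d a = -g a
  gX : b X = g X
  dY : b Y = d Y
  gY : g Y = 0
  gZ : g Z = 0
  gE : g E = 0
  dX : d X = 0
  dξ : d ξ = 0
  dE : d E = 0
  ba : b a = 0
  bξ : b ξ = 0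
  bZ : b Z = 0

theorem eq_of_mul_one {a b : ℤ} (ha : a = 1 ∨ a = -1) (h : a * b = 1) : b = a := by
  rcases ha with rfl | rfl <;> omega

theorem eq_neg_of_mul {a b : ℤ} (ha : a = 1 ∨ a = -1) (h : a * b = -1) : b = -a := by
  rcases ha with rfl | rfl <;> omega

theorem unit_of_triple {v : ι → ℤ} {p q r i : ι} (h : IsTriple v p q r) (hi : v i ≠ 0) :
    v i = 1 ∨ v i = -1 := by
  rcases h.mem_cases hi with e | e | e <;> subst e
  exacts [h.hp, h.hq, h.hr]

variable {n A g d b v : ι → ℤ}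

theorem Data.core (D : Data n A g d b v) : ∃ X a ξ Y Z E, Core g d b X a ξ Y Z E := by
  obtain ⟨g1, g2, g3, hg⟩ := exists_triple g D.hg
  obtain ⟨d1, d2, d3, hd⟩ := exists_triple d D.hd
  obtain ⟨b1, b2, b3, hb⟩ := exists_triple b D.hb
  obtain ⟨a, ha, ha'⟩ := common hg D.hd n D.hn (Or.inr rfl) D.gd (by rw [D.ng, D.nd]; norm_num)
  obtain ⟨X, hX, hX'⟩ := common hg D.hb n D.hn (Or.inl rfl) D.gb (by rw [D.ng, D.nb]; norm_num)
  obtain ⟨Y, hY, hY'⟩ := common hd D.hb n D.hn (Or.inl rfl) D.db (by rw [D.nd, D.nb]; norm_num)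
  have hga : g a ≠ 0 := fun e => by rw [e] at ha; simp at ha
  have hda : d a ≠ 0 := fun e => by rw [e] at ha; simp at ha
  have hgX : g X ≠ 0 := fun e => by rw [e] at hX; simp at hX
  have hbX : b X ≠ 0 := fun e => by rw [e] at hX; simp at hX
  have hdY : d Y ≠ 0 := fun e => by rw [e] at hY; simp at hY
  have hbY : b Y ≠ 0 := fun e => by rw [e] at hY; simp at hY
  have haX : a ≠ X := by
    intro e; subst e
    have : Y = a := by
      by_contra hne
      exact mul_ne_zero hda hbX (hY' a fun h => hne h.symm)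
    subst this
    have h1 : (g Y * d Y) * (g Y * b Y) * (d Y * b Y) = (g Y * d Y * b Y) ^ 2 := by ring
    rw [ha, hX, hY] at h1
    nlinarith [sq_nonneg (g Y * d Y * b Y)]
  have haY : a ≠ Y := by
    intro e; subst e
    exact mul_ne_zero hga hbY (hX' a haX)
  have hXY : X ≠ Y := by
    intro e; subst e
    exact mul_ne_zero hgX hdY (ha' X haX.symm)
  obtain ⟨ξ, hg'⟩ := hg.of_two hgX hga haX.symm
  obtain ⟨Z, hd'⟩ := hd.of_two hda hdY haY
  obtain ⟨E, hb'⟩ := hb.of_two hbX hbY hXY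
  have hξ : g ξ ≠ 0 := by rcases hg'.hp with e | e <;> omega
  have hZ : d Z ≠ 0 := by rcases hd'.hp with e | e <;> omega
  have hE : b E ≠ 0 := by rcases hb'.hp with e | e <;> omega
  exact ⟨X, a, ξ, Y, Z, E,
    { g_tri := hg'.rot, d_tri := hd'.rot, b_tri := hb'.rot
      ga := eq_neg_of_mul (unit_of_triple hg hga) ha
      gX := eq_of_mul_one (unit_of_triple hg hgX) hX
      dY := eq_of_mul_one (unit_of_triple hd hdY) hY
      gY := (mul_eq_zero.1 (ha' Y haY.symm)).resolve_right hdY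
      gZ := (mul_eq_zero.1 (ha' Z hd'.pq)).resolve_right hZ
      gE := (mul_eq_zero.1 (hX' E hb'.pq)).resolve_right hE
      dX := (mul_eq_zero.1 (ha' X haX.symm)).resolve_left hgX
      dξ := (mul_eq_zero.1 (ha' ξ hg'.pr)).resolve_left hξ
      dE := (mul_eq_zero.1 (hY' E hb'.pr)).resolve_right hE
      ba := (mul_eq_zero.1 (hX' a haX)).resolve_left hga
      bξ := (mul_eq_zero.1 (hX' ξ hg'.pq)).resolve_left hξ
      bZ := (mul_eq_zero.1 (hY' Z hd'.pr)).resolve_left hZ }⟩

variable {X a ξ Y Z E : ι}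

/-- The five possible supports of `v`. -/
theorem Data.fifth (D : Data n A g d b v) (C : Core g d b X a ξ Y Z E) :
    (∃ p, IsTriple v p ξ Z ∧ v ξ = g ξ ∧ v Z = -d Z) ∨
      (∃ p, IsTriple v p X Y ∧ v X = g X ∧ v Y = -d Y) ∨
      (∃ p, IsTriple v p ξ Y ∧ v ξ = g ξ ∧ v Y = -d Y) ∨
      (∃ p, IsTriple v p X Z ∧ v X = g X ∧ v Z = -d Z) ∨
      ∃ p q, IsTriple v a p q ∧ v a = g a := by
  obtain ⟨v1, v2, v3, hv⟩ := exists_triple v D.hv
  obtain ⟨P, hP, hP'⟩ := common C.g_tri D.hv n D.hn (Or.inl rfl) D.gv (by rw [D.ng, D.nv]; norm_num)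
  obtain ⟨Q, hQ, hQ'⟩ := common C.d_tri D.hv n D.hn (Or.inr rfl) D.dv (by rw [D.nd, D.nv]; norm_num)
  have hgP : g P ≠ 0 := fun e => by rw [e] at hP; simp at hP
  have hvP : v P ≠ 0 := fun e => by rw [e] at hP; simp at hP
  have hdQ : d Q ≠ 0 := fun e => by rw [e] at hQ; simp at hQ
  have hvQ : v Q ≠ 0 := fun e => by rw [e] at hQ; simp at hQ
  have vP : v P = g P := eq_of_mul_one (unit_of_triple C.g_tri hgP) hP
  have vQ : v Q = -d Q := eq_neg_of_mul (unit_of_triple C.d_tri hdQ) hQ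
  by_cases hva : v a = 0
  swap
  · obtain ⟨p, q, h⟩ := hv.front hva
    refine Or.inr (Or.inr (Or.inr (Or.inr ⟨p, q, h, ?_⟩)))
    have hga : g a ≠ 0 := by rcases C.g_tri.hq with e | e <;> omega
    have : P = a := by
      by_contra hne
      exact mul_ne_zero hga hva (hP' a fun h => hne h.symm)
    exact this ▸ vP
  have hPa : P ≠ a := fun e => hvP (e ▸ hva)
  have hQa : Q ≠ a := fun e => hvQ (e ▸ hva)
  have hPQ : P ≠ Q := by
    intro e; subst e
    rcases C.g_tri.mem_cases hgP with h | h | h <;> subst h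
    · exact hdQ C.dX
    · exact hPa rfl
    · exact hdQ C.dξ
  obtain ⟨p, hp⟩ := hv.of_two hvP hvQ hPQ
  rcases C.g_tri.mem_cases hgP with h | h | h <;> subst h <;>
    rcases C.d_tri.mem_cases hdQ with h | h | h <;> subst h
  all_goals first
    | exact absurd rfl hPa
    | exact absurd rfl hQa
    | exact Or.inl ⟨p, hp, vP, vQ⟩
    | exact Or.inr (Or.inl ⟨p, hp, vP, vQ⟩)
    | exact Or.inr (Or.inr (Or.inl ⟨p, hp, vP, vQ⟩))
    | exact Or.inr (Or.inr (Or.inr (Or.inl ⟨p, hp, vP, vQ⟩)))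

/-- The three possible supports of `A`. -/
theorem Data.sixth (D : Data n A g d b v) (C : Core g d b X a ξ Y Z E) :
    (∃ m, IsPair A a m ∧ A a = -g a) ∨
      (IsPair A X Y ∧ A X = -g X ∧ A Y = d Y) ∨ (IsPair A ξ Z ∧ A ξ = -g ξ ∧ A Z = d Z) := by
  obtain ⟨p, q, hp⟩ := TISylowThree.exists_pair A D.hA
  have hA : ∀ h : ι → ℤ, ∑ i, h i * A i = h p * A p + h q * A q := fun h => by
    rw [Finset.sum_congr rfl fun i _ => mul_comm (h i) (A i),
      TISylowThree.sum_mul_two hp.ne hp.zero, mul_comm, mul_comm (A q)]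
  have key : ∀ {p q : ι}, IsPair A p q → g q * A q = 0 → g p * A p + g q * A q = -1 →
      d p * A p + d q * A q = 1 → b p * A p + b q * A q = 0 →
      (∃ m, IsPair A a m ∧ A a = -g a) ∨
      (IsPair A X Y ∧ A X = -g X ∧ A Y = d Y) ∨ (IsPair A ξ Z ∧ A ξ = -g ξ ∧ A Z = d Z) := by
    intro p q hp hgq hg1 hd1 hb1
    rw [hgq, add_zero] at hg1
    have hgp : g p ≠ 0 := fun e => by rw [e] at hg1; simp at hg1
    have hAp : A p = -g p := eq_neg_of_mul (unit_of_triple C.g_tri hgp) hg1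
    rcases C.g_tri.mem_cases hgp with h | h | h <;> subst h
    · rw [C.dX, zero_mul, zero_add] at hd1
      have hdq : d q ≠ 0 := fun e => by rw [e] at hd1; simp at hd1
      have hAq : A q = d q := eq_of_mul_one (unit_of_triple C.d_tri hdq) hd1
      rcases C.d_tri.mem_cases hdq with h | h | h <;> subst h
      · exfalso
        rw [C.ba, zero_mul, add_zero, C.gX] at hb1
        rw [hb1] at hg1; simp at hg1
      · exact Or.inr (Or.inl ⟨hp, hAp, hAq⟩)
      · exfalso
        rw [C.bZ, zero_mul, add_zero, C.gX] at hb1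
        rw [hb1] at hg1; simp at hg1
    · exact Or.inl ⟨q, hp, hAp⟩
    · rw [C.dξ, zero_mul, zero_add] at hd1
      have hdq : d q ≠ 0 := fun e => by rw [e] at hd1; simp at hd1
      have hAq : A q = d q := eq_of_mul_one (unit_of_triple C.d_tri hdq) hd1
      rcases C.d_tri.mem_cases hdq with h | h | h <;> subst h
      · exfalso
        rw [C.ga] at hd1
        have : g q * A q ≠ 0 := mul_ne_zero (by rcases C.g_tri.hq with e | e <;> omega)
          (by rcases hp.right with e | e <;> omega)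
        exact this hgq
      · exfalso
        rw [C.bξ, zero_mul, zero_add, C.dY] at hb1
        rw [hb1] at hd1; simp at hd1
      · exact Or.inr (Or.inr ⟨hp, hAp, hAq⟩)
  have e1 := (hA g).symm.trans D.Ag
  have e2 := (hA d).symm.trans D.Ad
  have e3 := (hA b).symm.trans D.Ab
  by_cases hq : g q * A q = 0
  · exact key hp hq e1 e2 e3
  · have hpz : g p * A p = 0 := by
      have h1 : g p = 0 ∨ g p = 1 ∨ g p = -1 := by
        by_cases h : g p = 0
        · exact Or.inl h
        · exact Or.inr (unit_of_triple C.g_tri h)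
      have h2 := unit_of_triple C.g_tri (left_ne_zero_of_mul hq)
      rcases hp.left with a1 | a1 <;> rcases hp.right with a2 | a2 <;> rcases h2 with a3 | a3 <;>
        rcases h1 with a4 | a4 | a4 <;> simp only [a1, a2, a3, a4] at e1 ⊢ <;> omega
    exact key hp.swap hpz (by linarith) (by linarith) (by linarith)

end CfsgLib.AltNineThree
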