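import Cfsg.Agent.AltNineThree.Arith
import Cfsg.Agent.AltNineThree.Shapes

/-!
# A character of degree two
-/

set_option autoImplicit false
set_option linter.unusedSectionVars false

namespace CfsgLib.AltNineThree

variable {ι : Type*} [Fintype ι] [DecidableEq ι]

/-- The moments of two functions with respect to signed degrees. -/
structure Moments (n : ι → ℤ) (r r' : ι → ℚ) (f : ι → ℤ) (A B C : ℚ) : Prop where
  deg : ∑ i, n i * f i = 0
  lin : ∑ i, (f i : ℚ) * ((n i : ℚ) * r i) = 0
  lin' : ∑ i, (f i : ℚ) * ((n i : ℚ) * r' i) = 0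
  sq : ∑ i, (f i : ℚ) * ((n i : ℚ) * r i ^ 2) = A
  mix : ∑ i, (f i : ℚ) * ((n i : ℚ) * (r i * r' i)) = B
  sq' : ∑ i, (f i : ℚ) * ((n i : ℚ) * r' i ^ 2) = C

theorem weight_ne {f n : ι → ℤ} {i : ι} (hn : ∀ i, n i ≠ 0) (h : f i = 1 ∨ f i = -1) :
    (f i : ℚ) * n i ≠ 0 :=
  mul_ne_zero (Int.cast_ne_zero.2 (by rcases h with e | e <;> omega)) (Int.cast_ne_zero.2 (hn i))

theorem sum_extra {f : ι → ℤ} {o p q u : ι} {c : ℤ}
    (hT : IsTriple (fun i => f i - (if i = o then c else 0)) p q u) (h : ι → ℚ)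
    (ho : o ≠ p ∧ o ≠ q ∧ o ≠ u) :
    ∑ i, (f i : ℚ) * h i = c * h o + f p * h p + f q * h q + f u * h u := by
  have e := hT.sum_mul h
  simp only [if_neg ho.1.symm, if_neg ho.2.1.symm, if_neg ho.2.2.symm, sub_zero] at e
  have e2 : ∀ i, (f i : ℚ) * h i =
      ((f i - if i = o then c else 0 : ℤ) : ℚ) * h i + (if i = o then (c : ℚ) * h o else 0) := by
    intro i
    split_ifs with hi
    · subst hi; push_cast; ring
    · simp
  rw [Finset.sum_congr rfl fun i _ => e2 i, Finset.sum_add_distrib, Finset.sum_ite_eq',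
    if_pos (Finset.mem_univ o)]
  linarith

section Dist

variable {n : ι → ℤ} {r r' : ι → ℚ} {f : ι → ℤ} {o p q u : ι} {c : ℤ} {A B C : ℚ}

/-- A vector with four entries: the six equations. -/
theorem Moments.four (hM : Moments n r r' f A B C)
    (hT : IsTriple (fun i => f i - (if i = o then c else 0)) p q u)
    (ho : o ≠ p ∧ o ≠ q ∧ o ≠ u) :
    (c : ℚ) * n o + f p * n p + f q * n q + f u * n u = 0 ∧
    (c : ℚ) * n o * r o + f p * n p * r p + f q * n q * r q + f u * n u * r u = 0 ∧
    (c : ℚ) * n o * r' o + f p * n p * r' p + f q * n q * r' q + f u * n u * r' u = 0 ∧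
    (c : ℚ) * n o * r o ^ 2 + f p * n p * r p ^ 2 + f q * n q * r q ^ 2 + f u * n u * r u ^ 2 = A ∧
    (c : ℚ) * n o * r o * r' o + f p * n p * r p * r' p + f q * n q * r q * r' q +
      f u * n u * r u * r' u = B ∧
    (c : ℚ) * n o * r' o ^ 2 + f p * n p * r' p ^ 2 + f q * n q * r' q ^ 2 +
      f u * n u * r' u ^ 2 = C := by
  have h0 : ∑ i, (f i : ℚ) * (n i : ℚ) = 0 := by
    have := congrArg (Int.cast : ℤ → ℚ) hM.deg
    push_cast at this
    rw [← this]; exact Finset.sum_congr rfl fun i _ => mul_comm _ _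
  refine ⟨?_, ?_, ?_, ?_, ?_, ?_⟩
  · have := sum_extra hT (fun i => (n i : ℚ)) ho; linarith
  · have := (sum_extra hT (fun i => (n i : ℚ) * r i) ho).symm.trans hM.lin
    linear_combination this
  · have := (sum_extra hT (fun i => (n i : ℚ) * r' i) ho).symm.trans hM.lin'
    linear_combination this
  · have := (sum_extra hT (fun i => (n i : ℚ) * r i ^ 2) ho).symm.trans hM.sq
    linear_combination this
  · have := (sum_extra hT (fun i => (n i : ℚ) * (r i * r' i)) ho).symm.trans hM.mix
    linear_combination this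
  · have := (sum_extra hT (fun i => (n i : ℚ) * r' i ^ 2) ho).symm.trans hM.sq'
    linear_combination this

end Dist

/-- The hypotheses: vectors, central characters and the exclusion of linear characters. -/
structure Input (n : ι → ℤ) (one : ι) (r r' : ι → ℚ) (T : ℚ) (A g d b v : ι → ℤ) : Prop where
  pos : ∀ i, 0 < n i
  n_one : n one = 1
  A1 : A one = 0
  g1 : g one = 0
  d1 : d one = 0
  b1 : b one = -1
  v1 : v one = 1
  data : Data n A g d (fun i => b i - if i = one then -1 else 0)
    (fun i => v i - if i = one then 1 else 0)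
  T0 : T ≠ 0
  mA : Moments n r r' A 0 0 0
  mg : Moments n r r' g (-T) 0 0
  md : Moments n r r' d 0 0 (-T)
  mb : Moments n r r' b (-T) (-T) (-2 * T)
  mv : Moments n r r' v (T / 2) (T / 2) (3 * T / 2)
  linear : ∀ i, n i = 1 → d i = 0

variable {n : ι → ℤ} {one : ι} {r r' : ι → ℚ} {T : ℚ} {A g d b v : ι → ℤ}

set_option maxHeartbeats 2000000 in
theorem Input.exists_degree_two (I : Input n one r r' T A g d b v) :
    ∃ χ, n χ = 2 ∧ r χ = r one ∧ r' χ ≠ r' one := by
  have hn : ∀ i, n i ≠ 0 := fun i => (I.pos i).ne'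
  obtain ⟨X, a, ξ, Y, Z, E, C⟩ := I.data.core
  have hsup : ∀ (f : ι → ℤ) (i : ι), f one = 0 → (f i = 1 ∨ f i = -1) → one ≠ i := fun f i h h' e => by
    subst e; rcases h' with h' | h' <;> omega
  have hb0 : (fun i => b i - if i = one then -1 else 0) one = 0 := by simp [I.b1]
  have hv0 : (fun i => v i - if i = one then 1 else 0) one = 0 := by simp [I.v1]
  have oX : one ≠ X := hsup g X I.g1 C.g_tri.hp
  have oa : one ≠ a := hsup g a I.g1 C.g_tri.hq
  have oξ : one ≠ ξ := hsup g ξ I.g1 C.g_tri.hr
  have oY : one ≠ Y := hsup d Y I.d1 C.d_tri.hq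
  have oZ : one ≠ Z := hsup d Z I.d1 C.d_tri.hr
  have oE : one ≠ E := hsup (fun i => b i - if i = one then -1 else 0) E hb0 C.b_tri.hr
  -- `g`
  set x : ℚ := -((g X : ℚ) * n X) with hx
  set av : ℚ := -((g a : ℚ) * n a) with hav
  set y : ℚ := -((d Y : ℚ) * n Y) with hy
  set z : ℚ := -((d Z : ℚ) * n Z) with hz
  have x0 : x ≠ 0 := neg_ne_zero.2 (weight_ne hn C.g_tri.hp)
  have a0 : av ≠ 0 := neg_ne_zero.2 (weight_ne hn C.g_tri.hq)
  have y0 : y ≠ 0 := neg_ne_zero.2 (weight_ne hn C.d_tri.hq)
  have z0 : z ≠ 0 := neg_ne_zero.2 (weight_ne hn C.d_tri.hr)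
  have hgsum : ∀ h : ι → ℚ, ∑ i, (g i : ℚ) * h i = g X * h X + g a * h a + g ξ * h ξ :=
    C.g_tri.sum_mul
  have hdsum : ∀ h : ι → ℚ, ∑ i, (d i : ℚ) * h i = d a * h a + d Y * h Y + d Z * h Z :=
    C.d_tri.sum_mul
  have hξn : (g ξ : ℚ) * n ξ = x + av := by
    have h0 := congrArg (Int.cast : ℤ → ℚ) I.mg.deg
    push_cast at h0
    rw [Finset.sum_congr rfl fun i _ => mul_comm (n i : ℚ) (g i : ℚ), hgsum] at h0
    linarith
  have hyz : av = y + z := by
    have h0 := congrArg (Int.cast : ℤ → ℚ) I.md.deg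
    push_cast at h0
    rw [Finset.sum_congr rfl fun i _ => mul_comm (n i : ℚ) (d i : ℚ), hdsum, C.ga] at h0
    push_cast at h0
    linarith
  have xa0 : x + av ≠ 0 := hξn ▸ weight_ne hn C.g_tri.hr
  have gl := (hgsum _).symm.trans I.mg.lin
  have gl' := (hgsum _).symm.trans I.mg.lin'
  have gs := (hgsum _).symm.trans I.mg.sq
  have gs' := (hgsum _).symm.trans I.mg.sq'
  have dl := (hdsum _).symm.trans I.md.lin
  have dl' := (hdsum _).symm.trans I.md.lin'
  have ds := (hdsum _).symm.trans I.md.sq
  have ds' := (hdsum _).symm.trans I.md.sq'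
  rw [C.ga] at dl dl' ds ds'
  push_cast at dl dl' ds ds'
  set s := r X - r a with hs
  set δ := r' Y - r' a with hδ
  set Dz := r' Z - r' a with hDz
  have eg1 : (g X : ℚ) * n X = -x := by rw [hx, neg_neg]
  have eg2 : (g a : ℚ) * n a = -av := by rw [hav, neg_neg]
  have ed1 : (d Y : ℚ) * n Y = -y := by rw [hy, neg_neg]
  have ed2 : (d Z : ℚ) * n Z = -z := by rw [hz, neg_neg]
  have hs2 : s ^ 2 = T * (1 / x + 1 / av) := by
    refine three_points (w₂ := -(x + av)) (x₂ := r ξ) x0 a0 (neg_ne_zero.2 xa0) (by ring) ?_ ?_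
    · linear_combination -gl + (r ξ) * hξn + (r X) * eg1 + (r a) * eg2
    · linear_combination -gs + (r ξ ^ 2) * hξn + (r X ^ 2) * eg1 + (r a ^ 2) * eg2
  have hXa' : r' X = r' a := by
    have h := three_points (x₀ := r' X) (x₁ := r' a) (w₂ := -(x + av)) (x₂ := r' ξ) (A := 0) x0 a0
      (neg_ne_zero.2 xa0) (by ring)
      (by linear_combination -gl' + (r' ξ) * hξn + (r' X) * eg1 + (r' a) * eg2)
      (by linear_combination -gs' + (r' ξ ^ 2) * hξn + (r' X ^ 2) * eg1 + (r' a ^ 2) * eg2)
    rw [zero_mul] at h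
    linarith [(pow_eq_zero_iff two_ne_zero).1 h]
  have hξa' : r' ξ = r' a := by
    have : (x + av) * (r' ξ - r' a) = 0 := by
      rw [hXa'] at gl'
      linear_combination gl' - (r' ξ) * hξn - (r' a) * eg1 - (r' a) * eg2
    linarith [(mul_eq_zero.1 this).resolve_left xa0]
  have hδ2 : δ ^ 2 = T * (1 / y - 1 / av) := by
    have h := three_points (x₀ := r' Y) (x₁ := r' a) (w₁ := -av) (w₂ := z) (x₂ := r' Z) (A := T) y0
      (neg_ne_zero.2 a0) z0 (by linarith)
      (by linear_combination -dl' - (r' a) * eg2 + (r' Y) * ed1 + (r' Z) * ed2)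
      (by linear_combination -ds' - (r' a ^ 2) * eg2 + (r' Y ^ 2) * ed1 + (r' Z ^ 2) * ed2)
    rw [hδ, h]; field_simp; ring
  have hYa : r Y = r a := by
    have h := three_points (x₀ := r Y) (x₁ := r a) (w₁ := -av) (w₂ := z) (x₂ := r Z) (A := 0) y0
      (neg_ne_zero.2 a0) z0 (by linarith)
      (by linear_combination -dl - (r a) * eg2 + (r Y) * ed1 + (r Z) * ed2)
      (by linear_combination -ds - (r a ^ 2) * eg2 + (r Y ^ 2) * ed1 + (r Z ^ 2) * ed2)
    rw [zero_mul] at h
    linarith [(pow_eq_zero_iff two_ne_zero).1 h]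
  have hZa : r Z = r a := by
    have : z * (r Z - r a) = 0 := by
      rw [hYa] at dl
      linear_combination -dl - (r a) * eg2 + (r a) * ed1 + (r Z) * ed2 + (r a) * hyz
    linarith [(mul_eq_zero.1 this).resolve_left z0]
  have hD : y * δ + z * Dz = 0 := by
    rw [hδ, hDz]
    linear_combination -dl' - (r' a) * eg2 + (r' Y) * ed1 + (r' Z) * ed2 + (r' a) * hyz
  -- `b`
  have hbT : IsTriple (fun i => b i - if i = one then -1 else 0) X Y E := C.b_tri
  have hbX : b X = g X := by simpa [oX.symm] using C.gX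
  have hbY : b Y = d Y := by simpa [oY.symm] using C.dY
  have distb : ∀ {p q u : ι}, IsTriple (fun i => b i - if i = one then -1 else 0) p q u →
      one ≠ p → one ≠ q → one ≠ u →
      2 * (r p - r q) ^ 2 - 2 * (r p - r q) * (r' p - r' q) + (r' p - r' q) ^ 2 =
          T * (1 / -((b p : ℚ) * n p) + 1 / -((b q : ℚ) * n q)) ∧
        2 * (r one - r p) ^ 2 - 2 * (r one - r p) * (r' one - r' p) + (r' one - r' p) ^ 2 =
          T * (1 + 1 / -((b p : ℚ) * n p)) := by
    intro p q u hT o1 o2 o3
    obtain ⟨e0, e1, e2, e3, e4, e5⟩ := I.mb.four hT ⟨o1, o2, o3⟩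
    rw [I.n_one] at e0 e1 e2 e3 e4 e5
    push_cast at e0 e1 e2 e3 e4 e5
    have hp : (b p : ℚ) * n p ≠ 0 := weight_ne hn (by simpa [o1.symm] using hT.hp)
    have hq : (b q : ℚ) * n q ≠ 0 := weight_ne hn (by simpa [o2.symm] using hT.hq)
    have hu : (b u : ℚ) * n u ≠ 0 := weight_ne hn (by simpa [o3.symm] using hT.hr)
    constructor
    · have h := four_points (w₂ := 1) (x₂ := r one) (y₂ := r' one)
        (w₃ := -((b u : ℚ) * n u)) (x₃ := r u) (y₃ := r' u) (A := T) (B := T) (C := 2 * T)
        (x₀ := r p) (x₁ := r q) (y₀ := r' p) (y₁ := r' q)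
        (neg_ne_zero.2 hp) (neg_ne_zero.2 hq) (neg_ne_zero.2 hu)
        (by linear_combination -e0) (by linear_combination -e1) (by linear_combination -e2)
        (by linear_combination -e3) (by linear_combination -e4) (by linear_combination -e5)
      refine mul_left_cancel₀ I.T0 ?_
      linear_combination h
    · have h := four_points (w₀ := 1) (x₀ := r one) (y₀ := r' one)
        (w₁ := -((b p : ℚ) * n p)) (w₂ := -((b q : ℚ) * n q)) (x₂ := r q) (y₂ := r' q)
        (w₃ := -((b u : ℚ) * n u)) (x₁ := r p) (y₁ := r' p) (x₃ := r u) (y₃ := r' u)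
        (A := T) (B := T) (C := 2 * T)
        one_ne_zero (neg_ne_zero.2 hp) (neg_ne_zero.2 hu)
        (by linear_combination -e0) (by linear_combination -e1) (by linear_combination -e2)
        (by linear_combination -e3) (by linear_combination -e4) (by linear_combination -e5)
      rw [one_div_one] at h
      refine mul_left_cancel₀ I.T0 ?_
      linear_combination h
  obtain ⟨bXY, b1X⟩ := distb hbT oX oY oE
  obtain ⟨-, b1Y⟩ := distb hbT.swap oY oX oE
  rw [hbX, hbY, ← hx, ← hy, hXa', hYa] at bXY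
  rw [hbX, ← hx, hXa'] at b1X
  rw [hbY, ← hy, hYa] at b1Y
  obtain ⟨q, K, δ0, K0, q0, q1, hs', hTK, hDz', eX, ea, eY, eZ⟩ := normalise x0 y0 z0 a0 xa0 I.T0
    hyz hs2 hδ2 hD (by rw [hs, hδ]; linear_combination bXY)
  obtain ⟨α, hα⟩ : ∃ α, r one - r a = α * δ := ⟨(r one - r a) / δ, (div_mul_cancel₀ _ δ0).symm⟩
  obtain ⟨β, hβ⟩ : ∃ β, r' one - r' a = β * δ := ⟨(r' one - r' a) / δ, (div_mul_cancel₀ _ δ0).symm⟩
  have δ2 : δ ^ 2 ≠ 0 := pow_ne_zero 2 δ0
  have scale : ∀ {u v : ℚ}, δ ^ 2 * u = T * v → u = K * v := fun {u v} h => by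
    refine mul_left_cancel₀ δ2 ?_
    rw [h, hTK]; ring
  have dX : r one - r X = (α + 2) * δ := by rw [hs] at hs'; linear_combination hα - hs'
  have dX' : r' one - r' a = β * δ := hβ
  have dY' : r' one - r' Y = (β - 1) * δ := by rw [hδ] at hβ ⊢; linear_combination hβ
  obtain ⟨eβ, eK⟩ := beta_K (α := α) (β := β) (q := q) (K := K)
    (by
      have := scale (u := 2 * (α + 2) ^ 2 - 2 * (α + 2) * β + β ^ 2) (v := 1 + 1 / x)
        (by rw [← b1X, dX, dX']; ring)
      rw [this, mul_add K, mul_one, mul_one_div, eX])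
    (by
      have := scale (u := 2 * α ^ 2 - 2 * α * (β - 1) + (β - 1) ^ 2) (v := 1 + 1 / y)
        (by rw [← b1Y, hα, dY']; ring)
      rw [this, mul_add K, mul_one, mul_one_div, eY])
  have dZ' : r' Z - r' a = -q * δ := hDz'
  have hxq : x / (x + av) = q / 4 := by
    have h1 : K = (4 - q) * x := by rw [← eX, div_mul_cancel₀ _ x0]
    have h2 : K = q * av := by rw [← ea, div_mul_cancel₀ _ a0]
    rw [div_eq_iff xa0]
    linear_combination (1 / 4 : ℚ) * h2 - (1 / 4 : ℚ) * h1
  have hξq : K / (x + av) = q * (4 - q) / 4 := by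
    have h1 : K = (4 - q) * x := by rw [← eX, div_mul_cancel₀ _ x0]
    have h3 : x = q / 4 * (x + av) := by rw [← hxq, div_mul_cancel₀ _ xa0]
    rw [div_eq_iff xa0]
    linear_combination h1 + (4 - q) * h3
  have dξ : r ξ - r a = -(q / 2) * δ := by
    have h : (x + av) * (r ξ - r a) = x * s := by
      rw [hs]
      linear_combination gl - (r ξ) * hξn - (r X) * eg1 - (r a) * eg2
    rw [hs'] at h
    refine mul_left_cancel₀ xa0 ?_
    rw [h]
    have h3 : x = q / 4 * (x + av) := by rw [← hxq, div_mul_cancel₀ _ xa0]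
    linear_combination (-2 * δ) * h3
  -- `v`
  have distv : ∀ {p q u : ι}, IsTriple (fun i => v i - if i = one then 1 else 0) p q u →
      one ≠ p → one ≠ q → one ≠ u →
      3 * (r p - r q) ^ 2 - 2 * (r p - r q) * (r' p - r' q) + (r' p - r' q) ^ 2 =
          T * (1 / ((v p : ℚ) * n p) + 1 / ((v q : ℚ) * n q)) ∧
        3 * (r one - r p) ^ 2 - 2 * (r one - r p) * (r' one - r' p) + (r' one - r' p) ^ 2 =
          T * (1 + 1 / ((v p : ℚ) * n p)) := by
    intro p q u hT o1 o2 o3
    obtain ⟨e0, e1, e2, e3, e4, e5⟩ := I.mv.four hT ⟨o1, o2, o3⟩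
    rw [I.n_one] at e0 e1 e2 e3 e4 e5
    push_cast at e0 e1 e2 e3 e4 e5
    have hp : (v p : ℚ) * n p ≠ 0 := weight_ne hn (by simpa [o1.symm] using hT.hp)
    have hq : (v q : ℚ) * n q ≠ 0 := weight_ne hn (by simpa [o2.symm] using hT.hq)
    have hu : (v u : ℚ) * n u ≠ 0 := weight_ne hn (by simpa [o3.symm] using hT.hr)
    constructor
    · have h := four_points (w₂ := 1) (x₂ := r one) (y₂ := r' one) (w₃ := (v u : ℚ) * n u)
        (x₃ := r u) (y₃ := r' u) (A := T / 2) (B := T / 2) (C := 3 * T / 2)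
        (x₀ := r p) (x₁ := r q) (y₀ := r' p) (y₁ := r' q) hp hq hu
        (by linear_combination e0) (by linear_combination e1) (by linear_combination e2)
        (by linear_combination e3) (by linear_combination e4) (by linear_combination e5)
      refine mul_left_cancel₀ I.T0 ?_
      linear_combination 2 * h
    · have h := four_points (w₀ := 1) (x₀ := r one) (y₀ := r' one) (w₁ := (v p : ℚ) * n p)
        (x₁ := r p) (y₁ := r' p) (w₂ := (v q : ℚ) * n q) (x₂ := r q) (y₂ := r' q)
        (w₃ := (v u : ℚ) * n u) (x₃ := r u) (y₃ := r' u)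
        (A := T / 2) (B := T / 2) (C := 3 * T / 2) one_ne_zero hp hu
        (by linear_combination e0) (by linear_combination e1) (by linear_combination e2)
        (by linear_combination e3) (by linear_combination e4) (by linear_combination e5)
      rw [one_div_one] at h
      refine mul_left_cancel₀ I.T0 ?_
      linear_combination 2 * h
  have intK : ∀ {p : ι} {w : ℚ} {f : ι → ℤ}, (f p = 1 ∨ f p = -1) → w = -((f p : ℚ) * n p) →
      w = 1 → n p = 1 := by
    intro p w f hf hw h1
    have := I.pos p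
    rcases hf with e | e <;> rw [e, h1] at hw <;> push_cast at hw
    · have hnp : (n p : ℚ) = -1 := by linarith
      have : n p = -1 := by exact_mod_cast hnp
      omega
    · have hnp : (n p : ℚ) = 1 := by linarith
      exact_mod_cast hnp
  rcases I.data.fifth C with ⟨p, hp, vξ, vZ⟩ | ⟨p, hp, vX, vY⟩ | ⟨p, hp, vξ, vY⟩ | ⟨p, hp, vX, vZ⟩ |
    ⟨p, u, hp, va⟩
  · have op : one ≠ p := hsup (fun i => v i - if i = one then 1 else 0) p hv0 hp.hp
    obtain ⟨h1, h2⟩ := distv hp.rot oξ oZ op
    simp only [if_neg oξ.symm, if_neg oZ.symm, sub_zero] at vξ vZ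
    rw [vξ, vZ, Int.cast_neg, neg_mul, ← hz, hξn] at h1
    rw [vξ, hξn] at h2
    obtain ⟨rfl, rfl, rfl, rfl⟩ := shape_std q0 eβ eK
      (by
        have := scale (u := 3 * (q / 2) ^ 2 + 2 * (-(q / 2)) * (-q) * 1 - 4 * (q / 2) * q + q ^ 2
            + 4 * (q / 2) * q) (v := 1 / (x + av) + 1 / z)
          (by
            rw [← h1, hZa, show r ξ - r a = -(q / 2) * δ from dξ,
              show r' ξ - r' Z = q * δ by rw [hξa']; linear_combination -dZ']
            ring)
        rw [mul_add K, mul_one_div, mul_one_div, hξq, eZ] at this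
        linarith)
      (by
        have := scale (u := 3 * (α + q / 2) ^ 2 - 2 * (α + q / 2) * β + β ^ 2)
          (v := 1 + 1 / (x + av))
          (by
            rw [← h2, show r one - r ξ = (α + q / 2) * δ by linear_combination hα - dξ, hξa', dX']
            ring)
        rw [mul_add K, mul_one, mul_one_div, hξq] at this
        linarith)
    refine ⟨X, ?_, by linarith, fun e => δ0 (by linarith)⟩
    have hx2 : x = 2 := by field_simp at eX; linarith
    have := I.pos X
    rcases C.g_tri.hp with e | e <;> rw [hx, e] at hx2 <;> push_cast at hx2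
    · have hnp : (n X : ℚ) = -2 := by linarith
      have : n X = -2 := by exact_mod_cast hnp
      omega
    · have hnp : (n X : ℚ) = 2 := by linarith
      exact_mod_cast hnp
  · exfalso
    have op : one ≠ p := hsup (fun i => v i - if i = one then 1 else 0) p hv0 hp.hp
    obtain ⟨h1, h2⟩ := distv hp.rot oX oY op
    simp only [if_neg oX.symm, if_neg oY.symm, sub_zero] at vX vY
    rw [vX, vY, Int.cast_neg, neg_mul, ← hy, eg1] at h1
    rw [vX, eg1] at h2
    have hr : r X - r Y = -2 * δ := by rw [hYa, ← hs]; exact hs'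
    have hr' : r' X - r' Y = -δ := by rw [hXa', hδ]; ring
    obtain ⟨rfl, hK | hK⟩ := shape_XY K0 eβ eK
      (by
        have := scale (u := (9 : ℚ)) (v := 1 / -x + 1 / y) (by rw [← h1, hr, hr']; ring)
        rw [mul_add K, mul_one_div, mul_one_div, div_neg, eX, eY] at this
        linarith)
      (by
        have := scale (u := 3 * (α + 2) ^ 2 - 2 * (α + 2) * β + β ^ 2) (v := 1 + 1 / -x)
          (by rw [← h2, dX, hXa', dX']; ring)
        rw [mul_add K, mul_one, mul_one_div, div_neg, eX] at this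
        linarith)
    · have hz1 : z = 1 := by rw [hK] at eZ; field_simp at eZ; linarith
      have := I.linear Z (intK C.d_tri.hr hz hz1)
      rcases C.d_tri.hr with e | e <;> omega
    · have hy7 : (7 : ℚ) * y = 10 := by rw [hK] at eY; field_simp at eY; linarith
      rcases C.d_tri.hq with e | e <;> rw [hy, e] at hy7 <;> push_cast at hy7
      · have : (7 : ℤ) * n Y = -10 := by
          have h : (7 : ℚ) * n Y = -10 := by linarith
          exact_mod_cast h
        omega
      · have : (7 : ℤ) * n Y = 10 := by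
          have h : (7 : ℚ) * n Y = 10 := by linarith
          exact_mod_cast h
        omega
  · exfalso
    have op : one ≠ p := hsup (fun i => v i - if i = one then 1 else 0) p hv0 hp.hp
    obtain ⟨h1, -⟩ := distv hp.rot oξ oY op
    obtain ⟨-, h2⟩ := distv hp.rot.rot.swap.rot oY oξ op
    simp only [if_neg oξ.symm, if_neg oY.symm, sub_zero] at vξ vY
    rw [vξ, vY, Int.cast_neg, neg_mul, ← hy, hξn] at h1
    rw [vY, Int.cast_neg, neg_mul, ← hy] at h2
    obtain ⟨rfl, hK⟩ := shape_ξY q0 K0 eβ eK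
      (by
        have := scale (u := 3 * (q / 2) ^ 2 - q + 1) (v := 1 / (x + av) + 1 / y)
          (by
            rw [← h1, hYa, dξ, show r' ξ - r' Y = -δ by rw [hξa', hδ]; ring]
            ring)
        rw [mul_add K, mul_one_div, mul_one_div, hξq, eY] at this
        linarith)
      (by
        have := scale (u := 3 * α ^ 2 - 2 * α * (β - 1) + (β - 1) ^ 2) (v := 1 + 1 / y)
          (by rw [← h2, hYa, hα, dY']; ring)
        rw [mul_add K, mul_one, mul_one_div, eY] at this
        linarith)
    have hz1 : z = 1 := by rw [hK] at eZ; field_simp at eZ; linarith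
    have := I.linear Z (intK C.d_tri.hr hz hz1)
    rcases C.d_tri.hr with e | e <;> omega
  · exfalso
    have op : one ≠ p := hsup (fun i => v i - if i = one then 1 else 0) p hv0 hp.hp
    obtain ⟨h1, h2⟩ := distv hp.rot oX oZ op
    simp only [if_neg oX.symm, if_neg oZ.symm, sub_zero] at vX vZ
    rw [vX, vZ, Int.cast_neg, neg_mul, ← hz, eg1] at h1
    rw [vX, eg1] at h2
    have hr : r X - r Z = -2 * δ := by rw [hZa, ← hs]; exact hs'
    have hr' : r' X - r' Z = q * δ := by rw [hXa']; linear_combination -dZ'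
    refine shape_XZ eβ eK ?_ ?_
    · have := scale (u := 12 + 4 * q + q ^ 2) (v := 1 / -x + 1 / z) (by rw [← h1, hr, hr']; ring)
      rw [mul_add K, mul_one_div, mul_one_div, div_neg, eX, eZ] at this
      linarith
    · have := scale (u := 3 * (α + 2) ^ 2 - 2 * (α + 2) * β + β ^ 2) (v := 1 + 1 / -x)
        (by rw [← h2, dX, hXa', dX']; ring)
      rw [mul_add K, mul_one, mul_one_div, div_neg, eX] at this
      linarith
  · exfalso
    have op : one ≠ p := hsup (fun i => v i - if i = one then 1 else 0) p hv0 hp.hq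
    have ou : one ≠ u := hsup (fun i => v i - if i = one then 1 else 0) u hv0 hp.hr
    obtain ⟨-, h2⟩ := distv hp oa op ou
    simp only [if_neg oa.symm, sub_zero] at va
    rw [va, eg2] at h2
    have hq4 := shape_a eβ eK (by
      have := scale (u := 3 * α ^ 2 - 2 * α * β + β ^ 2) (v := 1 + 1 / -av)
        (by rw [← h2, hα, dX']; ring)
      rw [mul_add K, mul_one, mul_one_div, div_neg, ea] at this
      linarith)
    rcases I.data.sixth C with ⟨m, hm, hAa⟩ | ⟨hm, hAX, hAY⟩ | ⟨hm, hAξ, hAZ⟩
    · -- `A = {a, m}` with `m` in `v`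
      have hsum : ∀ h : ι → ℚ, ∑ i, (A i : ℚ) * h i = A a * h a + A m * h m := fun h => by
        rw [← Finset.sum_pair (f := fun i => (A i : ℚ) * h i) hm.ne]
        refine (Finset.sum_subset (Finset.subset_univ _) fun i _ hi => ?_).symm
        simp only [Finset.mem_insert, Finset.mem_singleton, not_or] at hi
        simp [hm.zero i hi.1 hi.2]
      have hmn : (A m : ℚ) * n m = -av := by
        have h0 := congrArg (Int.cast : ℤ → ℚ) I.mA.deg
        push_cast at h0
        rw [Finset.sum_congr rfl fun i _ => mul_comm (n i : ℚ) (A i : ℚ), hsum, hAa] at h0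
        push_cast at h0
        linarith
      have e1 := (hsum _).symm.trans I.mA.lin
      have e2 := (hsum _).symm.trans I.mA.lin'
      rw [hAa] at e1 e2
      push_cast at e1 e2
      have hrm : r m = r a := by
        have : av * (r m - r a) = 0 := by linear_combination -e1 + (r m) * hmn - (r a) * eg2
        linarith [(mul_eq_zero.1 this).resolve_left a0]
      have hrm' : r' m = r' a := by
        have : av * (r' m - r' a) = 0 := by linear_combination -e2 + (r' m) * hmn - (r' a) * eg2
        linarith [(mul_eq_zero.1 this).resolve_left a0]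
      have om : one ≠ m := hsup A m I.A1 hm.right
      have hvm : v m = A m := by
        have h0 := I.data.Av
        rw [Finset.sum_congr rfl fun i _ => mul_comm _ (A i),
          TISylowThree.sum_mul_two hm.ne hm.zero] at h0
        simp only [if_neg oa.symm, if_neg om.symm, sub_zero, va, hAa] at h0
        rcases C.g_tri.hq with e | e <;> rcases hm.right with e' | e' <;> rw [e, e'] at h0 <;> omega
      have hvm0 : (fun i => v i - if i = one then 1 else 0) m ≠ 0 := by
        simp only [if_neg om.symm, sub_zero, hvm]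
        rcases hm.right with e | e <;> omega
      have hva0 : (fun i => v i - if i = one then 1 else 0) a ≠ 0 := by
        simp only [if_neg oa.symm, sub_zero, va]
        rcases C.g_tri.hq with e | e <;> omega
      obtain ⟨w, hw⟩ := hp.of_two hva0 hvm0 hm.ne
      obtain ⟨h3, -⟩ := distv hw.rot oa om (hsup (fun i => v i - if i = one then 1 else 0) w hv0 hw.hp)
      rw [hrm, hrm', va, eg2, hvm, hmn] at h3
      have : T * (2 / av) = 0 := by linear_combination h3
      exact mul_ne_zero I.T0 (div_ne_zero two_ne_zero a0) this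
    · have hdeg := I.mA.deg
      rw [Finset.sum_congr rfl fun i _ => mul_comm (n i) (A i),
        TISylowThree.sum_mul_two hm.ne hm.zero, hAX, hAY] at hdeg
      have hxy : x = y := by
        have := congrArg (Int.cast : ℤ → ℚ) hdeg
        push_cast at this
        rw [hx, hy]; linarith
      rw [hxy, eY] at eX
      have : q = 3 / 2 := by linarith
      rw [this] at hq4
      linarith only [hq4, sq_nonneg (α + 2)]
    · have hdeg := I.mA.deg
      rw [Finset.sum_congr rfl fun i _ => mul_comm (n i) (A i),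
        TISylowThree.sum_mul_two hm.ne hm.zero, hAξ, hAZ] at hdeg
      have hxz : z = -(x + av) := by
        have := congrArg (Int.cast : ℤ → ℚ) hdeg
        push_cast at this
        rw [← hξn, hz]; linarith
      rw [hxz, div_neg, hξq] at eZ
      have h83 : q = -8 / 3 := by
        have : q * (3 * q + 8) = 0 := by linarith
        linarith [(mul_eq_zero.1 this).resolve_left q0]
      rw [h83] at hq4
      exact sq_ne_six ((α + 2) * 3 / 4) (by linear_combination (9 / 16 : ℚ) * hq4)

end CfsgLib.AltNineThree
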