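import Cfsg.Agent.AltNineThree.Count
import Cfsg.Agent.AltNineThree.Degree

/-!
# The normal subgroup
-/

set_option autoImplicit false
set_option linter.unusedSectionVars false
set_option linter.constructorNameAsVariable false
set_option maxRecDepth 4000

namespace CfsgLib.AltNineThree

open CfsgLib.Characters
open scoped ComplexConjugate

universe u

namespace Setup

variable {G : Type u} [Group G] [Fintype G] (c : Setup G)

/-- An irreducible character of degree two containing the double flips in its kernel, not the block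
exchanges. -/
theorem exists_character : ∃ χ : Cfsg.IrrCharacter G, (χ : G → ℂ) 1 = 2 ∧
    (χ : G → ℂ) (c.el' tOne) = 2 ∧ (χ : G → ℂ) (c.el' tTwo) ≠ 2 := by
  classical
  obtain ⟨h1, -, -, h2, -⟩ := tOne_spec
  choose a ha hac using fun i =>
    exists_int_coeff (Characters.isGen_indFun c.H (c.isGen_W i))
  choose n hn hn1 using fun χ : Cfsg.IrrCharacter G =>
    (show ∃ k : ℕ, 0 < k ∧ (χ : G → ℂ) 1 = (k : ℂ) from
      let ⟨k, h1, h2, _⟩ := ClassPairs.exists_irr_degree χ
      ⟨k, h1, h2⟩)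
  set N : Cfsg.IrrCharacter G → ℤ := fun χ => (n χ : ℤ)
  have hNC : ∀ χ, (N χ : ℂ) = (χ : G → ℂ) 1 := fun χ => by rw [hn1]; simp [N]
  have hN : ∀ χ : Cfsg.IrrCharacter G, (χ : G → ℂ) 1 ≠ 0 := fun χ => by simp [hn1, (hn χ).ne']
  have hval : ∀ t : M, t * t = 1 → ∀ χ : Cfsg.IrrCharacter G,
      ∃ z : ℤ, setSum (c.classSet t) χ = z := fun t ht χ => by
    choose z hz using fun u : c.classSet t => BlocksFrobenius.exists_int_apply χ (c.classSet_sq ht u.2)
    refine ⟨∑ u, z u, ?_⟩
    rw [setSum, ← Finset.sum_coe_sort]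
    push_cast
    exact Finset.sum_congr rfl fun u _ => hz u
  choose I₁ hI₁ using hval tOne h1
  choose I₂ hI₂ using hval tTwo h2
  set one : Cfsg.IrrCharacter G := ⟨fun _ => 1, Characters.isIrr_one⟩ with hone
  have hone1 : N one = 1 := by
    have : (N one : ℂ) = 1 := by rw [hNC]
    exact_mod_cast this
  have hexp : ∀ (i : Fin 5) (g : G), c.alpha i g = ∑ χ, (a i χ : ℂ) * (χ : G → ℂ) g := by
    intro i g
    rw [alpha, ha i]
    simp
  have hdeg : ∀ i, ∑ χ, N χ * a i χ = 0 := fun i => by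
    have h := hexp i 1
    rw [c.alpha_one i] at h
    have : ((∑ χ, N χ * a i χ : ℤ) : ℂ) = 0 := by
      push_cast
      rw [h]
      exact Finset.sum_congr rfl fun χ _ => by rw [hNC]; ring
    exact_mod_cast this
  have hinv : ∀ (t : M) (J : Cfsg.IrrCharacter G → ℤ), (t = tOne ∨ t = tTwo) →
      (∀ χ, setSum (c.classSet t) χ = J χ) → ∀ i, ∑ χ, a i χ * J χ = 0 := fun t J ht hJ i => by
    have h : ((∑ χ, a i χ * J χ : ℤ) : ℂ) = 0 := by
      push_cast
      simp only [← hJ, setSum, Finset.mul_sum]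
      rw [Finset.sum_comm]
      refine Finset.sum_eq_zero fun u hu => ?_
      rw [← hexp]
      refine c.alpha_inv i ?_
      rcases ht with rfl | rfl
      exacts [Or.inl hu, Or.inr hu]
    exact_mod_cast h
  have hgram : ∀ i j, ∑ χ, a i χ * a j χ = gram i j := fun i j => by
    have h := c.gram_alpha i j
    rw [alpha, classInner_eq_sum (isClassFunction_indFun _ _)] at h
    have h' : ((∑ χ, a i χ * a j χ : ℤ) : ℂ) = gram i j := by
      rw [← h]
      push_cast
      exact Finset.sum_congr rfl fun χ _ => by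
        rw [hac, show Cfsg.classInner (c.alpha j) (χ : G → ℂ) = _ from hac j χ, map_intCast]
    exact_mod_cast h'
  have htriv : ∀ i, a i one = triv i := fun i => by
    have h := c.alpha_triv i
    rw [show Cfsg.classInner (c.alpha i) (fun _ => 1) = _ from hac i one] at h
    exact_mod_cast h
  have hlinear : ∀ χ, N χ = 1 → a 2 χ = 0 := fun χ hχ => by
    obtain ⟨f, hf⟩ := exists_hom_of_degree_one (Characters.isCharacter_of_isIrr χ.2)
      (by rw [← hNC, hχ, Int.cast_one])
    have h := c.alpha_linear f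
    rw [← hf, show Cfsg.classInner (c.alpha 2) (χ : G → ℂ) = _ from hac 2 χ] at h
    exact_mod_cast h
  -- the moments
  have hmem : ∀ h : c.H, ((h : G) ∈ c.classSet tOne ↔ c.e h ∈ cl₁) ∧
      ((h : G) ∈ c.classSet tTwo ↔ c.e h ∈ cl₂) := fun h => by
    simpa only [cl₁, cl₂, Finset.mem_filter, Finset.mem_univ, true_and] using c.mem_class_iff h
  have htheta : ∀ (t t' : M) (A B : Finset M) (J J' : Cfsg.IrrCharacter G → ℤ) (i : Fin 5) (z : ℤ),
      t * t = 1 → t' * t' = 1 → (∀ h : c.H, (h : G) ∈ c.classSet t ↔ c.e h ∈ A) →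
      (∀ h : c.H, (h : G) ∈ c.classSet t' ↔ c.e h ∈ B) → (∀ a ∈ A, a * a = 1) →
      (∀ χ, setSum (c.classSet t) χ = J χ) → (∀ χ, setSum (c.classSet t') χ = J' χ) →
      ∑ u ∈ A, ∑ w ∈ B, V i (u * w) = (z, 0) →
      ∑ χ, (a i χ : ℚ) * ((N χ : ℚ) * ((J χ : ℚ) / N χ * ((J' χ : ℚ) / N χ))) =
        (Nat.card G : ℚ) * ((z : ℚ) / 1296) := by
    intro t t' A B J J' i z ht ht' hA hB hA2 hJ hJ' hz
    have h := c.alpha_pairs ht ht' hA hB hA2 i hz
    rw [alpha, ha i, classInner_sum_left] at h
    simp only [classInner_smul_left,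
      classInner_pairs (fun u hu => c.classSet_sq ht hu) (c.invariant_classSet t'), hJ, hJ',
      ← hNC] at h
    have hG : (Nat.card G : ℂ) ≠ 0 := natCard_ne_zero
    have h' : ∑ χ, (a i χ : ℂ) * ((N χ : ℂ) * ((J χ : ℂ) / N χ * ((J' χ : ℂ) / N χ))) =
        (Nat.card G : ℂ) * ((z : ℂ) / 1296) := by
      rw [← h, Finset.mul_sum]
      refine Finset.sum_congr rfl fun χ _ => ?_
      have : (N χ : ℂ) ≠ 0 := by rw [hNC]; exact hN χ
      field_simp
    have hQ : ((∑ χ, (a i χ : ℚ) * ((N χ : ℚ) * ((J χ : ℚ) / N χ * ((J' χ : ℚ) / N χ))) : ℚ) : ℂ) =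
        (((Nat.card G : ℚ) * ((z : ℚ) / 1296) : ℚ) : ℂ) := by
      push_cast
      exact h'
    exact_mod_cast hQ
  have hclA : ∀ a ∈ cl₁, a * a = 1 := fun a ha => invol_cl (Or.inl ha)
  have hclB : ∀ a ∈ cl₂, a * a = 1 := fun a ha => invol_cl (Or.inr ha)
  set r : Cfsg.IrrCharacter G → ℚ := fun χ => (I₁ χ : ℚ) / N χ
  set r' : Cfsg.IrrCharacter G → ℚ := fun χ => (I₂ χ : ℚ) / N χ
  have hNQ : ∀ χ, (N χ : ℚ) ≠ 0 := fun χ => by simp [N, (hn χ).ne']
  set T : ℚ := 3 * (Nat.card G : ℚ)
  have hmom : ∀ i, Moments N r r' (a i) ((Nat.card G : ℚ) * ((thetaA i : ℚ) / 1296))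
      ((Nat.card G : ℚ) * ((thetaC i : ℚ) / 1296))
      ((Nat.card G : ℚ) * ((thetaB i : ℚ) / 1296)) := fun i => by
    refine ⟨hdeg i, ?_, ?_, ?_, ?_, ?_⟩
    · simp only [r, mul_div_cancel₀ _ (hNQ _)]
      exact_mod_cast hinv tOne I₁ (Or.inl rfl) hI₁ i
    · simp only [r', mul_div_cancel₀ _ (hNQ _)]
      exact_mod_cast hinv tTwo I₂ (Or.inr rfl) hI₂ i
    · simpa only [sq] using htheta tOne tOne cl₁ cl₁ I₁ I₁ i _ h1 h1 (fun h => (hmem h).1)
        (fun h => (hmem h).1) hclA hI₁ hI₁ (V_thetaA i)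
    · exact htheta tOne tTwo cl₁ cl₂ I₁ I₂ i _ h1 h2 (fun h => (hmem h).1)
        (fun h => (hmem h).2) hclA hI₁ hI₂ (V_thetaC i)
    · simpa only [sq] using htheta tTwo tTwo cl₂ cl₂ I₂ I₂ i _ h2 h2 (fun h => (hmem h).2)
        (fun h => (hmem h).2) hclB hI₂ hI₂ (V_thetaB i)
  have hT : T ≠ 0 := mul_ne_zero three_ne_zero (Nat.cast_ne_zero.2 Nat.card_pos.ne')
  set δ : Cfsg.IrrCharacter G → ℤ := fun χ => if χ = one then 1 else 0
  have hδ : ∀ f : Cfsg.IrrCharacter G → ℤ, ∑ χ, f χ * δ χ = f one := fun f => by simp [δ]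
  have hshift : ∀ (i j : Fin 5) (p q : ℤ),
      ∑ χ, (a i χ - p * δ χ) * (a j χ - q * δ χ) = gram i j - q * triv i - p * triv j + p * q := by
    intro i j p q
    have e : ∀ χ, (a i χ - p * δ χ) * (a j χ - q * δ χ) =
        a i χ * a j χ - q * (a i χ * δ χ) - p * (a j χ * δ χ) + p * q * (δ χ * δ χ) := fun χ => by
      ring
    simp only [e, Finset.sum_add_distrib, Finset.sum_sub_distrib, ← Finset.mul_sum, hgram, hδ, htriv]
    simp [δ]
  have hshiftdeg : ∀ (i : Fin 5) (p : ℤ), ∑ χ, N χ * (a i χ - p * δ χ) = -p := fun i p => by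
    have e : ∀ χ, N χ * (a i χ - p * δ χ) = N χ * a i χ - p * (N χ * δ χ) := fun χ => by ring
    simp only [e, Finset.sum_sub_distrib, ← Finset.mul_sum, hdeg, hδ, hone1]
    ring
  have eb : ∀ χ, (a 3 χ - if χ = one then -1 else 0) = a 3 χ - (-1) * δ χ := fun χ => by
    simp only [δ]; split_ifs <;> ring
  have ev : ∀ χ, (a 4 χ - if χ = one then 1 else 0) = a 4 χ - 1 * δ χ := fun χ => by
    simp only [δ]; split_ifs <;> ring
  have hI : Input N one r r' T (a 0) (a 1) (a 2) (a 3) (a 4) :=
    { pos := fun χ => by simp [N, hn]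
      n_one := hone1
      A1 := htriv 0
      g1 := htriv 1
      d1 := htriv 2
      b1 := htriv 3
      v1 := htriv 4
      data :=
        { hn := fun χ => by simp [N, (hn χ).ne']
          hA := by simp only [sq, hgram]; rfl
          hg := by simp only [sq, hgram]; rfl
          hd := by simp only [sq, hgram]; rfl
          hb := by simp only [sq, eb, hshift]; rfl
          hv := by simp only [sq, ev, hshift]; rfl
          gd := by rw [hgram]; rfl
          gb := by
            rw [← sub_zero (a 1), ← show (fun χ => 0 * δ χ) = (0 : Cfsg.IrrCharacter G → ℤ) from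
              funext fun χ => zero_mul _]
            simp only [Pi.sub_apply, eb, hshift]; rfl
          db := by
            rw [← sub_zero (a 2), ← show (fun χ => 0 * δ χ) = (0 : Cfsg.IrrCharacter G → ℤ) from
              funext fun χ => zero_mul _]
            simp only [Pi.sub_apply, eb, hshift]; rfl
          gv := by
            rw [← sub_zero (a 1), ← show (fun χ => 0 * δ χ) = (0 : Cfsg.IrrCharacter G → ℤ) from
              funext fun χ => zero_mul _]
            simp only [Pi.sub_apply, ev, hshift]; rfl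
          dv := by
            rw [← sub_zero (a 2), ← show (fun χ => 0 * δ χ) = (0 : Cfsg.IrrCharacter G → ℤ) from
              funext fun χ => zero_mul _]
            simp only [Pi.sub_apply, ev, hshift]; rfl
          bv := by simp only [eb, ev, hshift]; rfl
          Ag := by rw [hgram]; rfl
          Ad := by rw [hgram]; rfl
          Ab := by
            rw [← sub_zero (a 0), ← show (fun χ => 0 * δ χ) = (0 : Cfsg.IrrCharacter G → ℤ) from
              funext fun χ => zero_mul _]
            simp only [Pi.sub_apply, eb, hshift]; rfl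
          Av := by
            rw [← sub_zero (a 0), ← show (fun χ => 0 * δ χ) = (0 : Cfsg.IrrCharacter G → ℤ) from
              funext fun χ => zero_mul _]
            simp only [Pi.sub_apply, ev, hshift]; rfl
          ng := hdeg 1
          nd := hdeg 2
          nb := by simp only [eb, hshiftdeg]; rfl
          nv := by simp only [ev, hshiftdeg]
          nA := hdeg 0 }
      T0 := hT
      mA := by
        convert hmom 0 using 1 <;> simp [thetaA, thetaB, thetaC]
      mg := by
        convert hmom 1 using 1 <;> simp [thetaA, thetaB, thetaC, T] <;> ring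
      md := by
        convert hmom 2 using 1 <;> simp [thetaA, thetaB, thetaC, T] <;> ring
      mb := by
        convert hmom 3 using 1 <;> simp [thetaA, thetaB, thetaC, T] <;> ring
      mv := by
        convert hmom 4 using 1 <;> simp [thetaA, thetaB, thetaC, T] <;> ring
      linear := hlinear }
  obtain ⟨χ, hχ2, hr, hr'⟩ := hI.exists_degree_two
  have hχ1 : (χ : G → ℂ) 1 = 2 := by rw [← hNC, hχ2]; norm_num
  have hcard : ∀ (t : M) (ψ : Cfsg.IrrCharacter G),
      setSum (c.classSet t) ψ = (c.classSet t).card * (ψ : G → ℂ) (c.el' t) := fun t ψ => by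
    rw [setSum, Finset.sum_congr rfl fun u hu => show (ψ : G → ℂ) u = (ψ : G → ℂ) (c.el' t) by
      obtain ⟨g, rfl⟩ := c.mem_classSet.1 hu
      exact Characters.isClassFunction_of_isIrr ψ.2 _ _, Finset.sum_const, nsmul_eq_mul]
  have hpos : ∀ t : M, ((c.classSet t).card : ℂ) ≠ 0 := fun t =>
    Nat.cast_ne_zero.2 (Finset.card_ne_zero_of_mem (c.self_mem_classSet t))
  have key : ∀ (t : M) (J : Cfsg.IrrCharacter G → ℤ), (∀ χ, setSum (c.classSet t) χ = J χ) →
      ((χ : G → ℂ) (c.el' t) = 2 ↔ (J χ : ℚ) / N χ = (J one : ℚ) / N one) := fun t J hJ => by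
    have e1 : (J one : ℂ) = (c.classSet t).card := by
      rw [← hJ, hcard]
      exact mul_one _
    have e2 : (J χ : ℂ) = (c.classSet t).card * (χ : G → ℂ) (c.el' t) := by rw [← hJ, hcard]
    rw [hone1, hχ2, Int.cast_ofNat, Int.cast_one, div_one]
    constructor
    · intro h
      have : (J χ : ℂ) = 2 * (J one : ℂ) := by rw [e2, e1, h]; ring
      have h' : (J χ : ℚ) = 2 * (J one : ℚ) := by exact_mod_cast this
      linarith
    · intro h
      have h' : J χ = 2 * J one := by
        have : (J χ : ℚ) = 2 * (J one : ℚ) := by linarith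
        exact_mod_cast this
      have h'' : (J χ : ℂ) = 2 * (J one : ℂ) := by exact_mod_cast h'
      rw [e2, e1] at h''
      exact mul_left_cancel₀ (hpos t) (h''.trans (mul_comm _ _))
  exact ⟨χ, hχ1, (key tOne I₁ hI₁).2 hr, fun h => hr' ((key tTwo I₂ hI₂).1 h)⟩

end Setup

end CfsgLib.AltNineThree
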