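import Cfsg.Prelude.Def_Solvable
import Cfsg.Agent.AltNineThree.Main
import Cfsg.Agent.TISylowThree.Final

/-!
# The normal subgroup is trivial
-/

set_option autoImplicit false
set_option linter.unusedSectionVars false
set_option linter.style.haveILetI false
set_option linter.constructorNameAsVariable false
set_option maxRecDepth 20000

namespace CfsgLib.AltNineThree

open CfsgLib.TISylowThree (D sgnHom act)
open scoped ComplexConjugate

universe u

theorem base_right : ∀ m : M, (base m).1.right = 1 := by decide +kernel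

theorem comm_right : ∀ m : M, m.1.right ≠ 1 →
    ∃ y ∈ [gThree, gThree * gThree, tTwo],
      (y * m * y⁻¹ * m⁻¹).1.right = .r 1 ∨ (y * m * y⁻¹ * m⁻¹).1.right = .r 2 := by
  decide +kernel

theorem three_right : gThree.1.right = .r 1 ∧ tOne * eOne * tOne * eOne⁻¹ = eOne ∧
    gThree * gThree * gThree = 1 ∧ tTwo * tTwo = 1 ∧ cls tTwo = 4 := by decide +kernel

/-- A normal subgroup of `M` containing a double flip contains all elements fixing every block. -/
theorem mem_of_right {S : Subgroup M} [S.Normal] (ht : tOne ∈ S) {m : M} (hm : m.1.right = 1) :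
    m ∈ S := by
  have hn : S.Normal := inferInstance
  have he : eOne ∈ S := by
    rw [← three_right.2.1, mul_assoc tOne eOne, mul_assoc tOne]
    exact S.mul_mem ht (hn.conj_mem _ ht eOne)
  rw [word_eq m, hm]
  simp only [word]
  rw [show expA (1 : D) = 0 from rfl, show expF (1 : D) = 0 from rfl, pow_zero, pow_zero, mul_one,
    mul_one]
  refine S.mul_mem (S.mul_mem (S.mul_mem (S.mul_mem ?_ ?_) ?_) ?_) ?_ <;>
    first
      | exact S.pow_mem he _
      | exact S.pow_mem ht _
      | exact S.pow_mem (hn.conj_mem _ he _) _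
      | exact S.pow_mem (hn.conj_mem _ ht _) _

/-- A normal subgroup of `M` containing a double flip either consists of the elements fixing every
block or contains a cyclic permutation of the blocks. -/
theorem right_of_mem {S : Subgroup M} [S.Normal] (ht : tOne ∈ S) (hg : gThree ∉ S) {m : M}
    (hm : m ∈ S) : m.1.right = 1 := by
  have hn : S.Normal := inferInstance
  by_contra hne
  obtain ⟨y, -, h⟩ := comm_right m hne
  set z := y * m * y⁻¹ * m⁻¹
  have hz : z ∈ S := S.mul_mem (hn.conj_mem _ hm y) (S.inv_mem hm)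
  obtain ⟨w, hw, hwr⟩ : ∃ w ∈ S, w.1.right = .r 1 := by
    rcases h with h | h
    · exact ⟨z, hz, h⟩
    · exact ⟨z * z, S.mul_mem hz hz, by
        change z.1.right * z.1.right = _
        rw [h]; rfl⟩
  refine hg ?_
  have h1 : gThree * w⁻¹ ∈ S := mem_of_right ht (by
    change gThree.1.right * w.1.right⁻¹ = 1
    rw [hwr, three_right.1, mul_inv_cancel])
  simpa using S.mul_mem h1 hw

/-- The embedding of the group of order `108`. -/
def inclusion : TISylowThree.M →* M :=
  ((SemidirectProduct.inl (φ := perm)).comp TISylowThree.parity.ker.subtype).codRestrict _ fun a => by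
    refine MonoidHom.mem_ker.2 ?_
    have h := MonoidHom.mem_ker.1 a.2
    simp only [TISylowThree.parity, MonoidHom.mul_apply, MonoidHom.comp_apply, MonoidHom.coe_fst,
      MonoidHom.coe_snd] at h
    change sgnHom a.1.1 * sgnHom a.1.2.1 * sgnHom a.1.2.2 * sgnHom 1 = 1
    rw [map_one, mul_one, mul_assoc]
    exact h

theorem inclusion_injective : Function.Injective inclusion := fun a b h =>
  Subtype.ext (congrArg (fun x : M => x.1.left) h)

theorem mem_range_inclusion {m : M} : m ∈ inclusion.range ↔ m.1.right = 1 := by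
  constructor
  · rintro ⟨a, rfl⟩; rfl
  · intro h
    have hm := MonoidHom.mem_ker.1 m.2
    change sgnHom m.1.left.1 * sgnHom m.1.left.2.1 * sgnHom m.1.left.2.2 * sgnHom m.1.right = 1 at hm
    rw [h, map_one, mul_one, mul_assoc] at hm
    refine ⟨⟨m.1.left, MonoidHom.mem_ker.2 ?_⟩, Subtype.ext (SemidirectProduct.ext rfl h.symm)⟩
    simpa [TISylowThree.parity] using hm

/-- The elementary abelian subgroup. -/
def eSub : Subgroup M where
  carrier := {m | IsE m}
  one_mem' := ⟨rfl, by simp⟩
  mul_mem' {a b} ha hb := (E_mul a ha b hb).1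
  inv_mem' {a} ha := by
    have h : a⁻¹ = a * a := inv_eq_of_mul_eq_one_right (by rw [← mul_assoc]; exact ha.2)
    change IsE a⁻¹
    rw [h]; exact (E_mul a ha a ha).1

instance : eSub.Normal := ⟨fun a ha x => E_conj a ha x⟩

/-- The elements of a Sylow `3`-subgroup. -/
def IsP (m : M) : Prop := m.1.right ≠ .sr 0 ∧ m.1.right ≠ .sr 1 ∧ m.1.right ≠ .sr 2 ∧
  sgnHom m.1.left.1 = 1 ∧ sgnHom m.1.left.2.1 = 1 ∧ sgnHom m.1.left.2.2 = 1

instance : DecidablePred IsP := fun _ => inferInstanceAs (Decidable (_ ∧ _))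

theorem card_P : (Finset.univ.filter IsP).card = 81 := by decide +kernel

theorem isP_one : IsP 1 ∧ IsP eOne := by decide +kernel

/-- A Sylow `3`-subgroup. -/
def pSub : Subgroup M where
  carrier := {m | IsP m}
  one_mem' := isP_one.1
  mul_mem' {a b} ha hb := by
    obtain ⟨⟨⟨a0, a1, a2⟩, p⟩, hpa⟩ := a
    obtain ⟨⟨⟨b0, b1, b2⟩, q⟩, hqb⟩ := b
    obtain ⟨h1, h2, h3, h4, h5, h6⟩ := ha
    obtain ⟨k1, k2, k3, k4, k5, k6⟩ := hb
    have hp : ∃ i, p = .r i := by
      cases p with
      | r i => exact ⟨i, rfl⟩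
      | sr i => fin_cases i <;> first | exact absurd rfl h1 | exact absurd rfl h2 | exact absurd rfl h3
    have hq : ∃ i, q = .r i := by
      cases q with
      | r i => exact ⟨i, rfl⟩
      | sr i => fin_cases i <;> first | exact absurd rfl k1 | exact absurd rfl k2 | exact absurd rfl k3
    obtain ⟨i, rfl⟩ := hp
    obtain ⟨j, rfl⟩ := hq
    have hb' : ∀ k, sgnHom (get (b0, b1, b2) k) = 1
      | 0 => k4
      | 1 => k5
      | 2 => k6
    change IsP ⟨⟨(a0, a1, a2) * tr (.r i) (b0, b1, b2), .r i * .r j⟩, _⟩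
    refine ⟨?_, ?_, ?_, ?_, ?_, ?_⟩
    · simp
    · simp
    · simp
    · change sgnHom (a0 * get (b0, b1, b2) _) = 1
      rw [map_mul, hb', h4, one_mul]
    · change sgnHom (a1 * get (b0, b1, b2) _) = 1
      rw [map_mul, hb', h5, one_mul]
    · change sgnHom (a2 * get (b0, b1, b2) _) = 1
      rw [map_mul, hb', h6, one_mul]
  inv_mem' {a} ha := by
    have h : ∀ m : M, IsP m → IsP m⁻¹ := by decide +kernel
    exact h a ha

theorem card_pSub : Nat.card pSub = 81 := by
  rw [← card_P, ← Fintype.card_subtype, ← Nat.card_eq_fintype_card]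
  rfl

theorem isP_gThree : IsP gThree := by decide +kernel

namespace Setup

variable {G : Type u} [Group G] [Finite G] (c : Setup G)

/-- The element map. -/
def hom : M →* G := c.H.subtype.comp c.e.symm.toMonoidHom

theorem hom_injective : Function.Injective c.hom := fun _ _ h => c.el'_inj h

theorem hom_mem (m : M) : c.hom m ∈ c.H := c.el'_mem m

/-- An element conjugating `eOne` into `H` lies in `H`. -/
theorem mem_of_eOne {g : G} (h : g * c.hom eOne * g⁻¹ ∈ c.H) : g ∈ c.H := by
  obtain ⟨-, -, -, -, -, -, -, -, -, -, -, hE, h1⟩ := tOne_spec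
  refine c.mem_of_E (j := c.e.symm eOne) (by simpa using hE) (by simp [cls_eMix.1]) (fun e => h1 ?_) h
  simpa using congrArg c.e e

/-- The image of `pSub` is a Sylow `3`-subgroup. -/
theorem exists_sylow : ∃ P : Sylow 3 G, (P : Subgroup G) = pSub.map c.hom := by
  haveI : Fact (Nat.Prime 3) := ⟨Nat.prime_three⟩
  set Q := pSub.map c.hom
  have hcard : Nat.card Q = 81 := by
    rw [Subgroup.card_map_of_injective c.hom_injective, card_pSub]
  have hQ : IsPGroup 3 Q := IsPGroup.of_card (n := 4) (by rw [hcard]; norm_num)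
  obtain ⟨P, hP⟩ := hQ.exists_le_sylow
  refine ⟨P, le_antisymm ?_ hP⟩
  by_contra hlt
  haveI : Group.IsNilpotent (P : Subgroup G) := P.2.isNilpotent
  have hnc := Group.normalizerCondition_of_isNilpotent (G := (P : Subgroup G)) (Q.subgroupOf P)
    (lt_top_iff_ne_top.2 fun ht => hlt (Subgroup.subgroupOf_eq_top.1 ht))
  refine hnc.2 fun x hx => Subgroup.mem_subgroupOf.2 ?_
  have hmem : c.hom eOne ∈ Q := Subgroup.mem_map_of_mem _ isP_one.2
  have hconj : (x : G) * c.hom eOne * (x : G)⁻¹ ∈ Q :=
    Subgroup.mem_subgroupOf.1 ((Subgroup.mem_normalizer_iff.1 hx ⟨_, hP hmem⟩).1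
      (Subgroup.mem_subgroupOf.2 hmem))
  have hxH : (x : G) ∈ c.H := c.mem_of_eOne (by
    obtain ⟨m, -, hm⟩ := hconj
    rw [← hm]; exact c.hom_mem m)
  have hQH : Q ≤ c.H := by rintro _ ⟨m, -, rfl⟩; exact c.hom_mem m
  have hR : IsPGroup 3 ((P : Subgroup G) ⊓ c.H : Subgroup G) := P.2.to_le inf_le_left
  obtain ⟨k, hk⟩ := hR.exists_card_eq
  have hdvd : Nat.card ((P : Subgroup G) ⊓ c.H : Subgroup G) ∣ 648 := by
    have := Subgroup.card_dvd_of_le (inf_le_right : (P : Subgroup G) ⊓ c.H ≤ c.H)
    rwa [Nat.card_congr c.e.toEquiv, Nat.card_eq_fintype_card (α := M), card_M] at this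
  have hle : Nat.card ((P : Subgroup G) ⊓ c.H : Subgroup G) ≤ Nat.card Q := by
    rw [hk] at hdvd ⊢
    rw [hcard]
    by_contra hgt
    have h5 : 5 ≤ k := by
      by_contra hk5
      exact hgt ((Nat.pow_le_pow_right (by norm_num) (by omega : k ≤ 4)).trans (by norm_num))
    exact absurd ((pow_dvd_pow 3 h5).trans hdvd) (by norm_num)
  rw [Subgroup.eq_of_le_of_card_ge (le_inf hP hQH) hle]
  exact ⟨x.2, hxH⟩

/-- `H = G`. -/
theorem eq_top : c.H = ⊤ := by
  classical
  haveI := Fintype.ofFinite G
  haveI : Fact (Nat.Prime 3) := ⟨Nat.prime_three⟩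
  obtain ⟨χ, hχ1, ht1, ht2⟩ := c.exists_character
  obtain ⟨d, ρ, hρ, hρc⟩ := χ.2
  have hd : (Module.finrank ℂ (Fin d → ℂ) : ℂ) = 2 := by
    rw [← hχ1, ← hρc, Representation.char_one]
  set N : Subgroup G := MonoidHom.ker ρ with hNdef
  have hN : ∀ g, g ∈ N ↔ (χ : G → ℂ) g = 2 := fun g => by
    rw [hNdef, MonoidHom.mem_ker, ← hρc, ← hd]
    exact (Characters.char_eq_finrank_iff ρ g).symm
  haveI : N.Normal := inferInstanceAs (MonoidHom.ker ρ).Normal
  set S : Subgroup M := N.comap c.hom
  haveI : S.Normal := Subgroup.Normal.comap inferInstance _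
  have hS1 : tOne ∈ S := (hN _).2 ht1
  have hS2 : tTwo ∉ S := fun h => ht2 ((hN _).1 h)
  have hg : gThree ∉ S := by
    intro hg
    have hP : ∀ m ∈ pSub, m ∈ S := by
      intro m hm
      obtain ⟨h1, h2, h3, -⟩ := hm
      cases hr : m.1.right with
      | sr i =>
        exfalso
        fin_cases i
        · exact h1 hr
        · exact h2 hr
        · exact h3 hr
      | r i =>
        have hm' : m * (gThree ^ i.val)⁻¹ ∈ S := mem_of_right hS1 (by
          change m.1.right * ((gThree ^ i.val).1.right)⁻¹ = 1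
          have hpow : ∀ k : ℕ, (gThree ^ k).1.right = DihedralGroup.r (k : ZMod 3) := by
            intro k
            induction k with
            | zero => rfl
            | succ k ih =>
              rw [pow_succ]
              change (gThree ^ k).1.right * gThree.1.right = _
              rw [ih, three_right.1]
              simp
          rw [hpow, hr, ZMod.natCast_zmod_val, mul_inv_cancel])
        simpa using S.mul_mem hm' (S.pow_mem hg i.val)
    obtain ⟨P, hPQ⟩ := c.exists_sylow
    have hPN : (P : Subgroup G) ≤ N := by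
      rw [hPQ]; rintro _ ⟨m, hm, rfl⟩; exact hP m hm
    have hsup := Sylow.normalizer_sup_eq_top (P.subtype hPN)
    rw [Sylow.coe_subtype, Subgroup.map_subgroupOf_eq_of_le hPN] at hsup
    have hnorm : Subgroup.normalizer ((P : Subgroup G) : Set G) ≤ c.H := fun x hx => by
      have hmem : c.hom eOne ∈ (P : Subgroup G) := hPQ ▸ Subgroup.mem_map_of_mem _ isP_one.2
      have := (Subgroup.mem_normalizer_iff.1 hx _).1 hmem
      rw [hPQ] at this
      obtain ⟨m, -, hm⟩ := this
      exact c.mem_of_eOne (hm ▸ c.hom_mem m)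
    have hHN : c.H ⊔ N = ⊤ := top_le_iff.1 (hsup ▸ sup_le_sup_right hnorm N)
    have hcover : ∀ g : G, g ∈ N ∨ c.hom tTwo * g ∈ N := by
      intro g
      obtain ⟨h, hh, n, hn, rfl⟩ :=
        Subgroup.mem_sup_of_normal_right.1 (hHN.symm ▸ Subgroup.mem_top g : g ∈ c.H ⊔ N)
      set m := c.e ⟨h, hh⟩
      have hhm : h = c.hom m := by simp [hom, m]
      have hb : base m ∈ S := mem_of_right hS1 (base_right m)
      have hsplit : m = base m * gThree ^ expA m.1.right * tTwo ^ expF m.1.right := by
        rw [base, mul_assoc, inv_mul_cancel_right]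
      rcases hr : m.1.right with i | i
      · refine Or.inl (N.mul_mem ?_ hn)
        rw [hhm]
        change m ∈ S
        rw [hsplit, hr, show expF (DihedralGroup.r i) = 0 from rfl, pow_zero, mul_one]
        exact S.mul_mem hb (S.pow_mem hg _)
      · refine Or.inr ?_
        rw [← mul_assoc, hhm, ← map_mul]
        refine N.mul_mem ?_ hn
        change tTwo * m ∈ S
        rw [hsplit, hr, show expF (DihedralGroup.sr i) = 1 from rfl, pow_one, ← mul_assoc]
        have hn' : S.Normal := inferInstance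
        have := hn'.conj_mem _ (S.mul_mem hb (S.pow_mem hg (expA (DihedralGroup.sr i)))) tTwo
        rwa [inv_eq_of_mul_eq_one_right three_right.2.2.2.1] at this
    have hcardN : Fintype.card G ≤ 2 * (Finset.univ.filter fun g => g ∈ N).card := by
      have hsub : (Finset.univ : Finset G) ⊆ (Finset.univ.filter fun g => g ∈ N) ∪
          (Finset.univ.filter fun g => g ∈ N).image fun n => (c.hom tTwo)⁻¹ * n := by
        intro g _
        rcases hcover g with h | h
        · exact Finset.mem_union_left _ (Finset.mem_filter.2 ⟨Finset.mem_univ _, h⟩)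
        · exact Finset.mem_union_right _ (Finset.mem_image.2
            ⟨_, Finset.mem_filter.2 ⟨Finset.mem_univ _, h⟩, inv_mul_cancel_left _ _⟩)
      have h1 := Finset.card_le_card hsub
      have h2 := Finset.card_union_le (Finset.univ.filter fun g => g ∈ N)
        ((Finset.univ.filter fun g => g ∈ N).image fun n => (c.hom tTwo)⁻¹ * n)
      have h3 := Finset.card_image_le (s := Finset.univ.filter fun g => g ∈ N)
        (f := fun n => (c.hom tTwo)⁻¹ * n)
      rw [Finset.card_univ] at h1
      omega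
    have hnorm1 := Characters.classInner_isIrr_self χ.2
    rw [Cfsg.classInner, inv_mul_eq_one₀ (Characters.natCard_ne_zero)] at hnorm1
    have hre : (∑ g : G, Complex.normSq ((χ : G → ℂ) g)) = (Nat.card G : ℝ) := by
      have h := congrArg Complex.re hnorm1
      simp only [Complex.mul_conj, Complex.re_sum, Complex.ofReal_re, Complex.natCast_re] at h
      exact h.symm
    have hge : (4 : ℝ) * (Finset.univ.filter fun g => g ∈ N).card ≤
        ∑ g : G, Complex.normSq ((χ : G → ℂ) g) := by
      refine le_trans (le_of_eq ?_) (Finset.sum_le_sum_of_subset_of_nonneg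
        (Finset.filter_subset (fun g => g ∈ N) _) fun g _ _ => Complex.normSq_nonneg _)
      rw [Finset.sum_congr rfl fun g hg => show Complex.normSq ((χ : G → ℂ) g) = 4 by
        rw [(hN g).1 (Finset.mem_filter.1 hg).2]; norm_num, Finset.sum_const, nsmul_eq_mul,
        mul_comm]
    rw [hre, Nat.card_eq_fintype_card] at hge
    have hpos : (0 : ℝ) < (Finset.univ.filter fun g => g ∈ N).card :=
      Nat.cast_pos.2 (Finset.card_pos.2 ⟨1, Finset.mem_filter.2 ⟨Finset.mem_univ _, N.one_mem⟩⟩)
    have : (Fintype.card G : ℝ) ≤ 2 * (Finset.univ.filter fun g => g ∈ N).card := by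
      exact_mod_cast hcardN
    linarith
  -- the group of order 108
  have hSr : ∀ m, m ∈ S ↔ m.1.right = 1 := fun m =>
    ⟨fun h => right_of_mem hS1 hg h, fun h => mem_of_right hS1 h⟩
  set f : ↥(c.H.subgroupOf N) →* M :=
    c.e.toMonoidHom.comp ((N.subtype.comp (c.H.subgroupOf N).subtype).codRestrict c.H fun x => x.2)
  have hf : Function.Injective f := fun x y h =>
    Subtype.ext (Subtype.ext (congrArg (fun z : c.H => (z : G)) (c.e.injective h)))
  have hrange : f.range = inclusion.range := by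
    ext m
    rw [mem_range_inclusion, ← hSr]
    constructor
    · rintro ⟨x, rfl⟩
      change c.hom (f x) ∈ N
      simp [hom, f]
      exact (x : N).2
    · intro hm
      exact ⟨⟨⟨c.hom m, hm⟩, c.hom_mem m⟩,
        (congrArg c.e (Subtype.ext rfl)).trans (c.e.apply_symm_apply m)⟩
  set e' : ↥(c.H.subgroupOf N) ≃* TISylowThree.M :=
    (MonoidHom.ofInjective hf).trans
      ((MulEquiv.subgroupCongr hrange).trans (MonoidHom.ofInjective inclusion_injective).symm)
  set J : Subgroup G := eSub.map c.hom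
  have hJH : J ≤ c.H := by rintro _ ⟨m, -, rfl⟩; exact c.hom_mem m
  have hJN : J ≤ N := by rintro _ ⟨m, hm, rfl⟩; exact (hSr m).2 hm.1
  have hJcard : Nat.card (J.subgroupOf N) = 27 := by
    rw [Nat.card_congr (Subgroup.subgroupOfEquivOfLe hJN).toEquiv,
      Subgroup.card_map_of_injective c.hom_injective, ← card_E, ← Fintype.card_subtype,
      ← Nat.card_eq_fintype_card]
    rfl
  have hnorm : Subgroup.normalizer ((J.subgroupOf N : Subgroup N) : Set N) = c.H.subgroupOf N := by
    refine le_antisymm (fun x hx => ?_) fun x hx => ?_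
    · have h1 : (⟨c.hom eOne, hJN (Subgroup.mem_map_of_mem _ tOne_spec.2.2.2.2.2.2.2.2.2.2.2.1)⟩ : N) ∈
          J.subgroupOf N := Subgroup.mem_map_of_mem _ tOne_spec.2.2.2.2.2.2.2.2.2.2.2.1
      exact c.mem_of_eOne (hJH ((Subgroup.mem_normalizer_iff.1 hx _).1 h1))
    · have hconj : ∀ (h : G), h ∈ c.H → ∀ j ∈ J, h * j * h⁻¹ ∈ J := by
        rintro h hh _ ⟨m, hm, rfl⟩
        refine ⟨c.e ⟨h, hh⟩ * m * (c.e ⟨h, hh⟩)⁻¹, E_conj m hm _, ?_⟩
        simp [hom]
      rw [Subgroup.mem_normalizer_iff]
      intro y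
      refine ⟨fun hy => hconj _ hx _ hy, fun hy => ?_⟩
      have := hconj _ (c.H.inv_mem hx) _ hy
      change (y : G) ∈ J
      simpa [mul_assoc] using this
  have hcent : ∀ t ∈ J.subgroupOf N, t ≠ 1 →
      Subgroup.centralizer ({t} : Set N) ≤ c.H.subgroupOf N := by
    intro t ht ht1 x hx
    obtain ⟨m, hm, hmt⟩ := ht
    have h := c.cent (c.e.symm m) (by rw [MulEquiv.apply_symm_apply]; exact hm) (fun e => ht1 (by
      refine Subtype.ext ?_
      have : c.hom m = 1 := by simp [hom, e]
      exact hmt.symm.trans this))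
    refine h (Subgroup.mem_centralizer_singleton_iff.2 ?_)
    change (x : G) * c.hom m = c.hom m * x
    rw [hmt]
    exact congrArg Subtype.val (Subgroup.mem_centralizer_singleton_iff.1 hx)
  have htop := TISylowThree.eq_top e' (fun x hx => hJH hx) hJcard hnorm hcent
  have hNH : N ≤ c.H := Subgroup.subgroupOf_eq_top.1 htop
  refine eq_top_iff.2 fun g _ => c.mem_of_eOne (hNH ?_)
  exact (inferInstance : N.Normal).conj_mem _ ((hSr eOne).2 rfl) g

end Setup

/-- The nine points as pairs. -/
def point : ZMod 3 × ZMod 3 ≃ Fin 9 := finProdFinEquiv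

/-- The permutation of nine points of an element of `W`. -/
def blockFun (m : M) : Equiv.Perm (Fin 9) :=
  point.permCongr ((Equiv.prodCongrRight fun k => act (get m.1.left (act m.1.right k))).trans
    ((act m.1.right).prodCongr (Equiv.refl _)))

theorem blockFun_apply (m : M) (k j : ZMod 3) :
    blockFun m (point (k, j)) = point (act m.1.right k, act (get m.1.left (act m.1.right k)) j) := by
  simp [blockFun, Equiv.permCongr_apply]

/-- The permutations of nine points. -/
def blockPerm : M →* Equiv.Perm (Fin 9) where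
  toFun := blockFun
  map_one' := by decide +kernel
  map_mul' x y := by
    refine Equiv.ext fun z => ?_
    obtain ⟨⟨k, j⟩, rfl⟩ := point.surjective z
    rw [blockFun_apply, Equiv.Perm.mul_apply, blockFun_apply, blockFun_apply]
    change point (act (x.1.right * y.1.right) k,
      act (get (x.1.left * tr x.1.right y.1.left) (act (x.1.right * y.1.right) k)) j) = _
    simp [get_mul, tr, get_mk, Equiv.Perm.mul_apply]

theorem blockPerm_injective : Function.Injective blockPerm :=
  (injective_iff_map_eq_one _).2 (by decide +kernel)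

theorem blockPerm_gen : blockPerm eOne = Equiv.swap (0 : Fin 9) 1 * Equiv.swap 1 2 ∧
    blockPerm gThree = Equiv.swap (0 : Fin 9) 3 * Equiv.swap 3 6 *
      (Equiv.swap (1 : Fin 9) 4 * Equiv.swap 4 7) * (Equiv.swap (2 : Fin 9) 5 * Equiv.swap 5 8) ∧
    blockPerm tOne = Equiv.swap (0 : Fin 9) 1 * Equiv.swap 3 4 ∧
    blockPerm tTwo = Equiv.swap (0 : Fin 9) 3 * Equiv.swap 1 4 * Equiv.swap 2 5 * Equiv.swap 6 7 := by
  decide +kernel

theorem range_blockPerm : blockPerm.range = Subgroup.closure
    ({Equiv.swap (0 : Fin 9) 1 * Equiv.swap 1 2,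
      Equiv.swap (0 : Fin 9) 3 * Equiv.swap 3 6 * (Equiv.swap (1 : Fin 9) 4 * Equiv.swap 4 7) *
        (Equiv.swap (2 : Fin 9) 5 * Equiv.swap 5 8),
      Equiv.swap (0 : Fin 9) 1 * Equiv.swap 3 4,
      Equiv.swap (0 : Fin 9) 3 * Equiv.swap 1 4 * Equiv.swap 2 5 * Equiv.swap 6 7} :
        Set (Equiv.Perm (Fin 9))) := by
  obtain ⟨g0, g1, g2, g3⟩ := blockPerm_gen
  refine le_antisymm ?_ ((Subgroup.closure_le _).2 ?_)
  · rintro _ ⟨m, rfl⟩
    have h := Subgroup.mem_map_of_mem blockPerm (mem_closure_gen m)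
    rw [MonoidHom.map_closure] at h
    refine (Subgroup.closure_le _).2 ?_ h
    rintro _ ⟨_, ⟨i, rfl⟩, rfl⟩
    refine Subgroup.subset_closure ?_
    fin_cases i <;> simp [gen, g0, g1, g2, g3]
  · intro x hx
    simp only [Set.mem_insert_iff, Set.mem_singleton_iff] at hx
    rcases hx with rfl | rfl | rfl | rfl
    exacts [⟨_, g0⟩, ⟨_, g1⟩, ⟨_, g2⟩, ⟨_, g3⟩]

/-- The `3`-core. -/
theorem pCore_eq : Cfsg.pCore 3 M = eSub := by
  refine le_antisymm (sSup_le ?_) (le_sSup ⟨inferInstance, fun x => ⟨1, Subtype.ext ?_⟩⟩)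
  · rintro N ⟨hn, hp⟩ x hx
    by_contra hE
    have h9 : ∀ y ∈ N, nine y = 1 := fun y hy => by
      obtain ⟨k, hk⟩ := hp ⟨y, hy⟩
      have hk' : y ^ 3 ^ k = 1 := congrArg Subtype.val hk
      refine nine_eq ?_
      obtain ⟨i, -, hi⟩ := (Nat.dvd_prime_pow Nat.prime_three).1 (orderOf_dvd_of_pow_eq_one hk')
      have h648 := orderOf_dvd_card (x := y)
      rw [card_M, hi] at h648
      refine orderOf_dvd_iff_pow_eq_one.1 (hi ▸ pow_dvd_pow (n := 4) 3 ?_)
      by_contra hlt
      exact absurd ((pow_dvd_pow 3 (by omega : 5 ≤ i)).trans h648) (by norm_num)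
    obtain ⟨y, hy⟩ := three_core x hE (h9 x hx)
    rcases hy with hy | hy
    · exact hy (h9 _ (N.mul_mem hx (hn.conj_mem _ hx y)))
    · exact hy (h9 _ (N.mul_mem hx (hn.conj_mem _ (N.mul_mem hx hx) y)))
  · change (x : M) ^ 3 = 1
    rw [pow_succ, pow_succ, pow_one]
    exact x.2.2

theorem pCore_comap {A : Type u} [Group A] (e : A ≃* M) :
    Cfsg.pCore 3 A = eSub.comap e.toMonoidHom := by
  refine le_antisymm (sSup_le ?_) (le_sSup ⟨inferInstance, ?_⟩)
  · rintro N ⟨hn, hp⟩ x hx
    have : N.map e.toMonoidHom ≤ Cfsg.pCore 3 M :=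
      le_sSup ⟨hn.map _ e.surjective, hp.map _⟩
    rw [pCore_eq] at this
    exact this (Subgroup.mem_map_of_mem _ hx)
  · intro x
    refine ⟨1, Subtype.ext (e.injective ?_)⟩
    have hx : IsE (e (x : A)) := x.2
    rw [pow_one, SubmonoidClass.coe_pow, map_pow, pow_succ, pow_succ, pow_one, OneMemClass.coe_one,
      map_one]
    exact hx.2

end CfsgLib.AltNineThree
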