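import Mathlib

/-!
# The arithmetic behind the degree-two character

Weights are signed degrees, points are the values of two central characters.
-/

set_option autoImplicit false

namespace CfsgLib.AltNineThree

/-- Four weighted points in the plane with given moments: the distance of two of them. -/
theorem four_points {w₀ w₁ w₂ w₃ x₀ x₁ x₂ x₃ y₀ y₁ y₂ y₃ A B C : ℚ}
    (h0 : w₀ ≠ 0) (h1 : w₁ ≠ 0) (h3 : w₃ ≠ 0) (hw : w₀ + w₁ + w₂ + w₃ = 0)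
    (hx : w₀ * x₀ + w₁ * x₁ + w₂ * x₂ + w₃ * x₃ = 0)
    (hy : w₀ * y₀ + w₁ * y₁ + w₂ * y₂ + w₃ * y₃ = 0)
    (hA : w₀ * x₀ ^ 2 + w₁ * x₁ ^ 2 + w₂ * x₂ ^ 2 + w₃ * x₃ ^ 2 = A)
    (hB : w₀ * x₀ * y₀ + w₁ * x₁ * y₁ + w₂ * x₂ * y₂ + w₃ * x₃ * y₃ = B)
    (hC : w₀ * y₀ ^ 2 + w₁ * y₁ ^ 2 + w₂ * y₂ ^ 2 + w₃ * y₃ ^ 2 = C) :
    C * (x₀ - x₁) ^ 2 - 2 * B * (x₀ - x₁) * (y₀ - y₁) + A * (y₀ - y₁) ^ 2 =
      (1 / w₀ + 1 / w₁) * (A * C - B ^ 2) := by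
  set a0 := x₀ - x₁ with ha0
  set a2 := x₂ - x₁ with ha2
  set a3 := x₃ - x₁ with ha3
  set b0 := y₀ - y₁ with hb0
  set b2 := y₂ - y₁ with hb2
  set b3 := y₃ - y₁ with hb3
  have hw1 : w₁ = -w₀ - w₂ - w₃ := by linarith
  subst hw1
  have ex : w₀ * a0 + w₂ * a2 + w₃ * a3 = 0 := by rw [ha0, ha2, ha3]; linear_combination hx
  have ey : w₀ * b0 + w₂ * b2 + w₃ * b3 = 0 := by rw [hb0, hb2, hb3]; linear_combination hy
  have eA : A = w₀ * a0 ^ 2 + w₂ * a2 ^ 2 + w₃ * a3 ^ 2 := by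
    rw [ha0, ha2, ha3]; linear_combination 2 * x₁ * hx - hA
  have eB : B = w₀ * a0 * b0 + w₂ * a2 * b2 + w₃ * a3 * b3 := by
    rw [ha0, ha2, ha3, hb0, hb2, hb3]; linear_combination y₁ * hx + x₁ * hy - hB
  have eC : C = w₀ * b0 ^ 2 + w₂ * b2 ^ 2 + w₃ * b3 ^ 2 := by
    rw [hb0, hb2, hb3]; linear_combination 2 * y₁ * hy - hC
  have d1 : w₂ * (a0 * b2 - a2 * b0) + w₃ * (a0 * b3 - a3 * b0) = 0 := by
    linear_combination a0 * ey - b0 * ex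
  have d2 : w₀ * (a2 * b0 - a0 * b2) + w₃ * (a2 * b3 - a3 * b2) = 0 := by
    linear_combination a2 * ey - b2 * ex
  have key3 : w₃ * (w₀ * (-w₀ - w₂ - w₃) * (C * a0 ^ 2 - 2 * B * a0 * b0 + A * b0 ^ 2) +
      (w₂ + w₃) * (A * C - B ^ 2)) = 0 := by
    rw [eA, eB, eC]
    linear_combination (-w₀ ^ 2 * (w₃ * (a0 * b3 - a3 * b0) - w₂ * (a0 * b2 - a2 * b0))) * d1 +
      (w₂ * (w₂ + w₃) * (w₃ * (a2 * b3 - a3 * b2) - w₀ * (a2 * b0 - a0 * b2))) * d2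
  have key := (mul_eq_zero.1 key3).resolve_left h3
  field_simp
  linear_combination key

/-- Three weighted points on a line. -/
theorem three_points {w₀ w₁ w₂ x₀ x₁ x₂ A : ℚ} (h0 : w₀ ≠ 0) (h1 : w₁ ≠ 0) (h2 : w₂ ≠ 0)
    (hw : w₀ + w₁ + w₂ = 0) (hx : w₀ * x₀ + w₁ * x₁ + w₂ * x₂ = 0)
    (hA : w₀ * x₀ ^ 2 + w₁ * x₁ ^ 2 + w₂ * x₂ ^ 2 = A) :
    (x₀ - x₁) ^ 2 = A * (1 / w₀ + 1 / w₁) := by
  obtain rfl : w₁ = -w₀ - w₂ := by linarith
  have ex : w₂ * (x₂ - x₁) = -(w₀ * (x₀ - x₁)) := by linear_combination hx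
  have eA : A = w₀ * (x₀ - x₁) ^ 2 + w₂ * (x₂ - x₁) ^ 2 := by linear_combination 2 * x₁ * hx - hA
  refine mul_left_cancel₀ h2 ?_
  field_simp
  rw [eA]
  linear_combination (w₂ * (x₂ - x₁) - w₀ * (x₀ - x₁)) * ex

/-- The normalised unknowns. -/
theorem normalise {x y z a T s δ Dz : ℚ} (hx : x ≠ 0) (hy : y ≠ 0) (hz : z ≠ 0) (ha : a ≠ 0)
    (hxa : x + a ≠ 0) (hT : T ≠ 0) (hyz : a = y + z) (hs : s ^ 2 = T * (1 / x + 1 / a))
    (hδ : δ ^ 2 = T * (1 / y - 1 / a)) (hD : y * δ + z * Dz = 0)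
    (hb : 2 * s ^ 2 + 2 * s * δ + δ ^ 2 = T * (1 / x + 1 / y)) :
    ∃ q K : ℚ, δ ≠ 0 ∧ K ≠ 0 ∧ q ≠ 0 ∧ 1 + q ≠ 0 ∧ s = -2 * δ ∧ T = K * δ ^ 2 ∧ Dz = -q * δ ∧
      K / x = 4 - q ∧ K / a = q ∧ K / y = 1 + q ∧ K / z = q * (1 + q) := by
  have hδ0 : δ ≠ 0 := by
    intro h
    rw [h] at hδ
    have : (0 : ℚ) = T * z / (y * a) := by
      rw [show T * z / (y * a) = T * (1 / y - 1 / a) by field_simp; rw [hyz]; ring, ← hδ]; ring
    exact (div_ne_zero (mul_ne_zero hT hz) (mul_ne_zero hy ha)) this.symm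
  have hs0 : s ≠ 0 := by
    intro h
    rw [h] at hs
    have : (0 : ℚ) = T * (x + a) / (x * a) := by
      rw [show T * (x + a) / (x * a) = T * (1 / x + 1 / a) by field_simp; ring, ← hs]; ring
    exact (div_ne_zero (mul_ne_zero hT hxa) (mul_ne_zero hx ha)) this.symm
  have hs2 : s = -2 * δ := by
    have : s * (s + 2 * δ) = 0 := by linear_combination hb - hs - hδ
    linarith [(mul_eq_zero.1 this).resolve_left hs0]
  subst hs2
  have hδ2 : δ ^ 2 ≠ 0 := pow_ne_zero 2 hδ0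
  have e1 : T / δ ^ 2 / y = 1 + y / z := by
    subst hyz
    field_simp at hδ ⊢
    linear_combination -hδ
  have e2 : T / δ ^ 2 / a = y / z := by
    subst hyz
    field_simp at hδ ⊢
    linear_combination -hδ
  refine ⟨y / z, T / δ ^ 2, hδ0, div_ne_zero hT hδ2, div_ne_zero hy hz, ?_, rfl, by field_simp, ?_,
    ?_, e2, e1, ?_⟩
  · rw [← e1]; exact div_ne_zero (div_ne_zero hT hδ2) hy
  · field_simp; linear_combination hD
  · have h4 : T / δ ^ 2 * (1 / x + 1 / a) = 4 := by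
      field_simp at hs ⊢
      linear_combination -hs
    rw [mul_add, mul_one_div, mul_one_div, e2] at h4
    linarith
  · rw [← e1]; field_simp

variable {α β q K : ℚ}

/-- The two distances from the principal point inside `b`. -/
theorem beta_K (h1 : 2 * (α + 2) ^ 2 - 2 * (α + 2) * β + β ^ 2 = K + (4 - q))
    (h2 : 2 * α ^ 2 - 2 * α * (β - 1) + (β - 1) ^ 2 = K + (1 + q)) :
    β = 3 * α + 2 + q ∧ K = 5 * α ^ 2 + 4 * α + 4 * α * q + q + q ^ 2 := by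
  have hβ : β = 3 * α + 2 + q := by linarith
  subst hβ
  exact ⟨rfl, by linarith⟩

/-- The intended configuration. -/
theorem shape_std (hq : q ≠ 0) (hβ : β = 3 * α + 2 + q)
    (hK : K = 5 * α ^ 2 + 4 * α + 4 * α * q + q + q ^ 2)
    (hZξ : 3 * (q / 2) ^ 2 + 2 * (q / 2) * q + q ^ 2 = q * (1 + q) + q * (4 - q) / 4)
    (h1ξ : 3 * (α + q / 2) ^ 2 - 2 * (α + q / 2) * β + β ^ 2 = K + q * (4 - q) / 4) :
    q = 1 ∧ α = -2 ∧ β = -3 ∧ K = 6 := by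
  have hq1 : q = 1 := by
    have : q * (q - 1) = 0 := by linarith
    linarith [(mul_eq_zero.1 this).resolve_left hq]
  subst hq1 hβ hK
  have : (α + 2) ^ 2 = 0 := by linarith
  obtain rfl : α = -2 := by linarith [(pow_eq_zero_iff two_ne_zero).1 this]
  norm_num

/-- Both points `X`, `Y` in the fifth vector. -/
theorem shape_XY (hK0 : K ≠ 0) (hβ : β = 3 * α + 2 + q)
    (hK : K = 5 * α ^ 2 + 4 * α + 4 * α * q + q + q ^ 2) (hXY : (9 : ℚ) = 2 * q - 3)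
    (h1X : 3 * (α + 2) ^ 2 - 2 * (α + 2) * β + β ^ 2 = K - (4 - q)) :
    q = 6 ∧ (K = 42 ∨ K = 10) := by
  obtain rfl : q = 6 := by linarith
  subst hβ hK
  have : α * (α + 4) = 0 := by linarith
  rcases mul_eq_zero.1 this with h | h
  · subst h; norm_num
  · obtain rfl : α = -4 := by linarith
    norm_num

/-- The points `Y`, `ξ` in the fifth vector. -/
theorem shape_ξY (hq : q ≠ 0) (hK0 : K ≠ 0) (hβ : β = 3 * α + 2 + q)
    (hK : K = 5 * α ^ 2 + 4 * α + 4 * α * q + q + q ^ 2)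
    (hξY : 3 * (q / 2) ^ 2 - q + 1 = (1 + q) + q * (4 - q) / 4)
    (h1Y : 3 * α ^ 2 - 2 * α * (β - 1) + (β - 1) ^ 2 = K + (1 + q)) : q = 3 ∧ K = 12 := by
  have : q * (q - 3) = 0 := by linarith
  obtain rfl : q = 3 := by linarith [(mul_eq_zero.1 this).resolve_left hq]
  subst hβ hK
  have : α ^ 2 = 0 := by linarith
  obtain rfl := (pow_eq_zero_iff two_ne_zero).1 this
  norm_num

/-- The points `X`, `Z` in the fifth vector. -/
theorem shape_XZ (hβ : β = 3 * α + 2 + q)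
    (hK : K = 5 * α ^ 2 + 4 * α + 4 * α * q + q + q ^ 2)
    (hXZ : 12 + 4 * q + q ^ 2 = -(4 - q) + q * (1 + q))
    (h1X : 3 * (α + 2) ^ 2 - 2 * (α + 2) * β + β ^ 2 = K - (4 - q)) : False := by
  obtain rfl : q = -8 := by linarith
  subst hβ hK
  nlinarith [sq_nonneg (α + 2)]

/-- The point `a` in the fifth vector. -/
theorem shape_a (hβ : β = 3 * α + 2 + q)
    (hK : K = 5 * α ^ 2 + 4 * α + 4 * α * q + q + q ^ 2)
    (h1a : 3 * α ^ 2 - 2 * α * β + β ^ 2 = K - q) : (α + 2) ^ 2 = -4 * q := by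
  subst hβ hK
  linarith

theorem sq_ne_six (r : ℚ) : r ^ 2 ≠ 6 := by
  intro h
  have hs : IsSquare (6 : ℚ) := ⟨r, by rw [← h]; ring⟩
  rw [show (6 : ℚ) = ((6 : ℕ) : ℚ) by norm_num, Rat.isSquare_natCast_iff] at hs
  obtain ⟨m, hm⟩ := hs
  have : m < 7 := by nlinarith
  interval_cases m <;> omega

end CfsgLib.AltNineThree
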