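import Cfsg.Agent.AltNineThree.Data

/-!
# Conjugation in the group of order `648`
-/

set_option autoImplicit false

namespace CfsgLib.AltNineThree

open CfsgLib.TISylowThree (D sgnHom act)

set_option maxRecDepth 100000

/-- The element with given coordinates (the identity if this is odd). -/
def el (a b c p : D) : M :=
  if h : parHom ⟨(a, b, c), p⟩ = 1 then ⟨⟨(a, b, c), p⟩, h⟩ else 1

/-- A rotation of the first block. -/
def eOne : M := el (.r 1) 1 1 1

/-- A double flip. -/
def tOne : M := el (.sr 2) (.sr 2) 1 1

/-- The cyclic permutation of the blocks. -/
def gThree : M := el 1 1 1 (.r 1)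

/-- An exchange of two blocks. -/
def tTwo : M := el 1 1 (.sr 2) (.sr 2)

/-- Four generators. -/
def gen : Fin 4 → M := ![eOne, tOne, gThree, tTwo]

/-- Representatives of the classes. -/
def classRep : Fin 14 → M :=
  ![el (.r 0) (.r 0) (.r 0) (.r 0),
   el (.r 1) (.r 0) (.r 0) (.r 0),
   el (.r 0) (.r 0) (.r 0) (.r 1),
   el (.sr 2) (.sr 2) (.r 0) (.r 0),
   el (.r 0) (.r 0) (.sr 2) (.sr 2),
   el (.r 1) (.r 0) (.r 0) (.r 1),
   el (.r 1) (.r 0) (.sr 2) (.sr 2),
   el (.sr 2) (.r 0) (.r 0) (.sr 1),
   el (.r 2) (.r 0) (.r 0) (.r 1),
   el (.r 1) (.r 0) (.sr 2) (.sr 0),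
   el (.r 2) (.r 0) (.sr 2) (.sr 0),
   el (.r 1) (.r 1) (.r 0) (.r 0),
   el (.r 1) (.sr 2) (.sr 2) (.r 0),
   el (.r 1) (.r 1) (.r 1) (.r 0)]

/-- Steps needed to reach a representative by conjugating with the generators. -/
def depthData : ℕ := 67812846804223655125991746161927878653600443064329102059210332003749956016371621573016074718854934682932575652644489081420431666383407836505552496392153692266781545216064100079929703800984984211732193575943439840517379180089254671248673205998414570654127985816903316819096061365400988863020657290479780276772780383717864308637916684295212411165785933553877602738273586463020012568535818552388803358397270416407633659276391437318829667613192732074281170203671297964371013974349809535300725024313404378693483803789245413389734917164729475870380912575297468211790852992037538377731038546797975596926229552342608946261609843469562853280731216541186721397046824884785363309378325721028255124800569163329920786067645494339527486526010894432277487617630798865999214133199258208553945104312213538040072496944730916946826627828074022034934358115328697066211775641984303988220821668724634114769990269073676336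4253721300656526430618116791477928082680178652039184644106336275523679751010153567359285121556830566165231194491241352392024390968239685488540543058473265745723276315818759333252067609570186605410996260942139407363942887481480654780587423886500108652783768910205747023197654016628770734802281715285428345146010268663840101726661738961576002843378299539835773999078047633253540279876368561591776210704695654572515914833354950391973235491310971004442455174104173379680647273466428550959810510589717021445150882562524773647506743028399076862378360299457302043567347566345841753869194655422911713762117694021722767890187411255062934066582660606596561916418286682624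

/-- The depth. -/
def depth (m : M) : ℕ := (depthData >>> (4 * index m.1)) % 16

theorem cls_rep : ∀ c : Fin 14, cls (classRep c) = c := by decide +kernel

theorem depth_step : ∀ m : M, (depth m = 0 → ∃ c, classRep c = m) ∧
    (depth m ≠ 0 → ∃ i, depth (gen i * m * (gen i)⁻¹) < depth m) := by decide +kernel

/-- Every element is conjugate to a representative. -/
theorem exists_conj_rep (m : M) : ∃ (c : Fin 14) (x : M), x * classRep c * x⁻¹ = m := by
  induction h : depth m using Nat.strong_induction_on generalizing m with
  | _ n ih =>
    subst h
    by_cases h0 : depth m = 0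
    · obtain ⟨c, hc⟩ := (depth_step m).1 h0
      exact ⟨c, 1, by simp [hc]⟩
    · obtain ⟨i, hi⟩ := (depth_step m).2 h0
      obtain ⟨c, x, hx⟩ := ih _ hi _ rfl
      exact ⟨c, (gen i)⁻¹ * x, by
        calc (gen i)⁻¹ * x * classRep c * ((gen i)⁻¹ * x)⁻¹
            = (gen i)⁻¹ * (x * classRep c * x⁻¹) * gen i := by group
          _ = m := by rw [hx]; group⟩

theorem cls_gen : ∀ (m : M) (i : Fin 4), cls (gen i * m * (gen i)⁻¹) = cls m := by decide +kernel

/-- The exponent of a rotation. -/
def expA : D → ℕ
  | .r i => i.val
  | .sr i => (2 - i).val

/-- Whether an element of `S₃` is odd. -/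
def expF : D → ℕ
  | .r _ => 0
  | .sr _ => 1

/-- The part fixing every block. -/
def base (m : M) : M := m * (gThree ^ expA m.1.right * tTwo ^ expF m.1.right)⁻¹

/-- A word in the four generators. -/
def word (a b c d e i j : ℕ) : M :=
  eOne ^ a * (gThree * eOne * gThree⁻¹) ^ b * (gThree * gThree * eOne * (gThree * gThree)⁻¹) ^ c *
    tOne ^ d * (gThree * tOne * gThree⁻¹) ^ e * gThree ^ i * tTwo ^ j

theorem word_eq : ∀ m : M, m = word (expA (base m).1.left.1) (expA (base m).1.left.2.1)
    (expA (base m).1.left.2.2) (expF (base m).1.left.1) (expF (base m).1.left.2.2)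
    (expA m.1.right) (expF m.1.right) := by decide +kernel

theorem mem_closure_gen (m : M) : m ∈ Subgroup.closure (Set.range gen) := by
  have h : ∀ i, gen i ∈ Subgroup.closure (Set.range gen) := fun i =>
    Subgroup.subset_closure ⟨i, rfl⟩
  have h0 : eOne ∈ Subgroup.closure (Set.range gen) := h 0
  have h1 : tOne ∈ Subgroup.closure (Set.range gen) := h 1
  have h2 : gThree ∈ Subgroup.closure (Set.range gen) := h 2
  have h3 : tTwo ∈ Subgroup.closure (Set.range gen) := h 3
  rw [word_eq m, word]
  apply_rules [mul_mem, pow_mem, inv_mem]

/-- The class number is invariant under conjugation. -/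
theorem cls_conj (x m : M) : cls (x * m * x⁻¹) = cls m := by
  induction mem_closure_gen x using Subgroup.closure_induction generalizing m with
  | mem y hy => obtain ⟨i, rfl⟩ := hy; exact cls_gen m i
  | one => simp
  | mul y z _ _ hy hz =>
    rw [show y * z * m * (y * z)⁻¹ = y * (z * m * z⁻¹) * y⁻¹ by group, hy, hz]
  | inv y _ hy =>
    have := hy (y⁻¹ * m * y)
    rw [show y * (y⁻¹ * m * y) * y⁻¹ = m by group] at this
    rw [inv_inv, this]

/-- Two elements with the same class number are conjugate. -/
theorem conj_of_cls {a b : M} (h : cls a = cls b) : ∃ x : M, x * a * x⁻¹ = b := by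
  obtain ⟨c, x, hx⟩ := exists_conj_rep a
  obtain ⟨d, y, hy⟩ := exists_conj_rep b
  have hcd : c = d := Fin.ext (by
    rw [← cls_rep c, ← cls_rep d, ← cls_conj x (classRep c), hx, h, ← hy, cls_conj])
  subst hcd
  exact ⟨y * x⁻¹, by rw [← hx, ← hy]; group⟩

end CfsgLib.AltNineThree
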