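import Cfsg.Agent.AltNineThree.Setup
import Cfsg.Agent.Characters.Linear
import Cfsg.Agent.BlocksFrobenius.InvolutionPairs

/-!
# Induced class functions and products of two involutions
-/

set_option autoImplicit false
set_option linter.unusedSectionVars false
set_option linter.constructorNameAsVariable false

namespace CfsgLib.AltNineThree

open CfsgLib.Characters
open scoped ComplexConjugate

universe u

section Generic

variable {G : Type u} [Group G]

/-- The elements of `S` sent into `S'` by right multiplication. -/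
noncomputable def pairSet (S S' : Finset G) (g : G) : Finset G :=
  haveI := Classical.decEq G
  S.filter fun u => u * g ∈ S'

theorem mem_pairSet {S S' : Finset G} {g u : G} : u ∈ pairSet S S' g ↔ u ∈ S ∧ u * g ∈ S' := by
  simp [pairSet]

/-- The number of elements of `S` sent into `S'` by right multiplication. -/
noncomputable def pairs (S S' : Finset G) (g : G) : ℕ := (pairSet S S' g).card

variable [Fintype G]

theorem sum_pairs {R : Type*} [CommSemiring R] {S S' : Finset G} (h : ∀ u ∈ S, u * u = 1)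
    (f : G → R) : ∑ g : G, f g * (pairs S S' g : R) = ∑ u ∈ S, ∑ v ∈ S', f (u * v) := by
  classical
  simp only [pairs, pairSet, Finset.card_filter, Nat.cast_sum, Finset.mul_sum]
  rw [Finset.sum_comm]
  refine Finset.sum_congr rfl fun u hu => ?_
  have hu2 := h u hu
  rw [Finset.sum_congr rfl fun g _ => show f g * ((if u * g ∈ S' then 1 else 0 : ℕ) : R) =
      if u * g ∈ S' then f g else 0 by split_ifs <;> simp, ← Finset.sum_filter]
  refine Finset.sum_bij' (fun g _ => u * g) (fun v _ => u * v)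
    (fun g hg => (Finset.mem_filter.1 hg).2) (fun v hv => Finset.mem_filter.2
      ⟨Finset.mem_univ _, by rw [← mul_assoc, hu2, one_mul]; exact hv⟩)
    (fun g _ => by rw [← mul_assoc, hu2, one_mul]) (fun v _ => by rw [← mul_assoc, hu2, one_mul])
    fun g _ => by rw [← mul_assoc, hu2, one_mul]

/-- A conjugation invariant set. -/
def Invariant (S : Finset G) : Prop := ∀ u ∈ S, ∀ g : G, g * u * g⁻¹ ∈ S

theorem pairs_isClassFunction {S S' : Finset G} (hS : Invariant S) (hS' : Invariant S') :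
    Cfsg.IsClassFunction G fun g => (pairs S S' g : ℂ) := by
  classical
  intro g h
  simp only [Nat.cast_inj, pairs]
  refine Finset.card_bij (fun u _ => h⁻¹ * u * h) (fun u hu => ?_)
    (fun a _ b _ e => by simpa using e) fun v hv => ⟨h * v * h⁻¹, ?_, by group⟩
  · rw [mem_pairSet] at hu ⊢
    refine ⟨by simpa using hS u hu.1 h⁻¹, ?_⟩
    have := hS' _ hu.2 h⁻¹
    rwa [show h⁻¹ * (u * (h * g * h⁻¹)) * h⁻¹⁻¹ = h⁻¹ * u * h * g by group] at this
  · rw [mem_pairSet] at hv ⊢
    refine ⟨hS v hv.1 h, ?_⟩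
    rw [show h * v * h⁻¹ * (h * g * h⁻¹) = h * (v * g) * h⁻¹ by group]
    exact hS' _ hv.2 h

/-- The sum over a set. -/
noncomputable def setSum (S : Finset G) (χ : Cfsg.IrrCharacter G) : ℂ := ∑ u ∈ S, (χ : G → ℂ) u

theorem classInner_pairs {S S' : Finset G} (hS : ∀ u ∈ S, u * u = 1) (hS' : Invariant S')
    (χ : Cfsg.IrrCharacter G) :
    Cfsg.classInner (χ : G → ℂ) (fun g => (pairs S S' g : ℂ)) =
      (Nat.card G : ℂ)⁻¹ * (setSum S χ * setSum S' χ / (χ : G → ℂ) 1) := by
  classical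
  have hcf := Characters.isClassFunction_of_isIrr χ.2
  have hG : (Nat.card G : ℂ) ≠ 0 := natCard_ne_zero
  have hv : ∀ z : G, ∑ v ∈ S', (χ : G → ℂ) (v * z) =
      setSum S' χ * (χ : G → ℂ) z / (χ : G → ℂ) 1 := by
    intro z
    refine mul_left_cancel₀ hG ?_
    calc (Nat.card G : ℂ) * ∑ v ∈ S', (χ : G → ℂ) (v * z)
        = ∑ a : G, ∑ v ∈ S', (χ : G → ℂ) (a * v * a⁻¹ * z) := by
          rw [Nat.card_eq_fintype_card, ← nsmul_eq_mul, ← Finset.card_univ, ← Finset.sum_const]
          refine Finset.sum_congr rfl fun a _ => ?_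
          refine Finset.sum_bij' (fun v _ => a⁻¹ * v * a) (fun v _ => a * v * a⁻¹)
            (fun v hv => by simpa using hS' v hv a⁻¹) (fun v hv => hS' v hv a)
            (fun v _ => by group) (fun v _ => by group) fun v _ => by
              rw [show a * (a⁻¹ * v * a) * a⁻¹ * z = v * z by group]
      _ = (Nat.card G : ℂ) * (setSum S' χ * (χ : G → ℂ) z / (χ : G → ℂ) 1) := by
          rw [Finset.sum_comm]
          simp only [ClassPairs.sum_conj_mul, setSum, Finset.sum_mul, Finset.sum_div, Finset.mul_sum]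
          exact Finset.sum_congr rfl fun v _ => by ring
  rw [Cfsg.classInner]
  congr 1
  simp only [map_natCast]
  rw [sum_pairs hS]
  have hflip : ∀ u v : G, (χ : G → ℂ) (u * v) = (χ : G → ℂ) (v * u) := fun u v => by
    rw [← hcf (v * u) u]
    congr 1
    group
  rw [Finset.sum_congr rfl fun u _ => (Finset.sum_congr rfl fun v _ => hflip u v).trans (hv u),
    ← Finset.sum_div, ← Finset.mul_sum]
  rw [mul_comm]
  rfl

end Generic

theorem V_zero {m : M} (h : cls m = 0 ∨ cls m = 3 ∨ cls m = 4) (i : Fin 5) : V i m = (0, 0) := by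
  rcases h with e | e | e <;> fin_cases i <;> simp [V, rows, e]

theorem Vc_zero {m : M} (h : cls m = 0 ∨ cls m = 3 ∨ cls m = 4) (i : Fin 5) : Vc i m = 0 := by
  simp [Vc, V_zero h i]

theorem Vc_zero' {m : M} (h : cls m = 2) (i : Fin 5) : Vc i m = 0 := by
  have hV : V i m = (0, 0) := by fin_cases i <;> simp [V, rows, h]
  simp [Vc, hV]

theorem cls_inv_thirteen : ∀ m : M, cls m = 13 → cls m⁻¹ ≠ 2 := by decide +kernel

theorem invol_cl {m : M} (h : m ∈ cl₁ ∨ m ∈ cl₂) : m * m = 1 := by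
  refine ((cls_invol m).2 ?_).1
  rcases h with h | h <;> simp only [cl₁, cl₂, Finset.mem_filter] at h
  exacts [Or.inl h.2, Or.inr h.2]

variable {G : Type u} [Group G] [Fintype G] (c : Setup G)

noncomputable local instance : Fintype c.H := Fintype.ofFinite _

namespace Setup

/-- The conjugates in `G` of an element of `M`. -/
noncomputable def classSet (t : M) : Finset G :=
  haveI := Classical.decEq G
  Finset.univ.filter fun u => ∃ g : G, g * c.el' t * g⁻¹ = u

theorem mem_classSet {t : M} {u : G} : u ∈ c.classSet t ↔ ∃ g : G, g * c.el' t * g⁻¹ = u := by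
  simp [classSet]

theorem invariant_classSet (t : M) : Invariant (c.classSet t) := by
  intro u hu g
  obtain ⟨x, rfl⟩ := c.mem_classSet.1 hu
  exact c.mem_classSet.2 ⟨g * x, by group⟩

theorem self_mem_classSet (t : M) : c.el' t ∈ c.classSet t := c.mem_classSet.2 ⟨1, by simp⟩

theorem classSet_sq {t : M} (ht : t * t = 1) {u : G} (hu : u ∈ c.classSet t) : u * u = 1 := by
  obtain ⟨x, rfl⟩ := c.mem_classSet.1 hu
  calc x * c.el' t * x⁻¹ * (x * c.el' t * x⁻¹) = x * (c.el' t * c.el' t) * x⁻¹ := by group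
    _ = 1 := by rw [← el'_mul, ht, el'_one]; group

theorem coe_eq_el' (x : c.H) : (x : G) = c.el' (c.e x) := by simp [el']

theorem mem_class_iff (x : c.H) :
    ((x : G) ∈ c.classSet tOne ↔ cls (c.e x) = 3) ∧
      ((x : G) ∈ c.classSet tTwo ↔ cls (c.e x) = 4) := by
  obtain ⟨h1, -, hc1, h2, hc2, -⟩ := tOne_spec
  have hback : ∀ t : M, cls (c.e x) = cls t → (x : G) ∈ c.classSet t := fun t h => by
    obtain ⟨k, hk⟩ := conj_of_cls h.symm
    refine c.mem_classSet.2 ⟨c.el' k, ?_⟩
    rw [← el'_inv, ← el'_mul, ← el'_mul, hk, ← coe_eq_el']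
  have hforth : ∀ t : M, t * t = 1 → t ≠ 1 → (x : G) ∈ c.classSet t →
      cls (c.e x) = 3 ∨ cls (c.e x) = 4 := fun t ht ht1 h => by
    refine (cls_invol _).1 ⟨?_, fun e => ?_⟩
    · rw [← map_mul, c.eq_one_iff]
      exact Subtype.ext (c.classSet_sq ht h)
    · obtain ⟨g, hg⟩ := c.mem_classSet.1 h
      rw [c.coe_eq_el' x, e, el'_one] at hg
      refine ht1 (c.el'_inj ?_)
      rw [el'_one]
      simpa [mul_inv_eq_iff_eq_mul] using hg
  have hfuse : (x : G) ∈ c.classSet tOne → (x : G) ∈ c.classSet tTwo → False := fun a b => by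
    obtain ⟨g, hg⟩ := c.mem_classSet.1 a
    obtain ⟨g', hg'⟩ := c.mem_classSet.1 b
    refine c.not_fused (g'⁻¹ * g) ?_
    calc g'⁻¹ * g * c.el' tOne * (g'⁻¹ * g)⁻¹ = g'⁻¹ * (g * c.el' tOne * g⁻¹) * g' := by group
      _ = c.el' tTwo := by rw [hg, ← hg']; group
  have ht2 : tTwo ≠ 1 := ((cls_invol tTwo).2 (Or.inr hc2)).2
  have ht1 : tOne ≠ 1 := ((cls_invol tOne).2 (Or.inl hc1)).2
  refine ⟨⟨fun h => (hforth _ h1 ht1 h).resolve_right fun e => hfuse h (hback _ (e.trans hc2.symm)),
    fun e => hback _ (e.trans hc1.symm)⟩, ⟨fun h => (hforth _ h2 ht2 h).resolve_left fun e =>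
    hfuse (hback _ (e.trans hc1.symm)) h, fun e => hback _ (e.trans hc2.symm)⟩⟩

/-- The class functions on `H`. -/
noncomputable def W (i : Fin 5) (h : c.H) : ℂ := Vc i (c.e h)

theorem isGen_W (i : Fin 5) : Cfsg.IsGeneralizedCharacter c.H (c.W i) :=
  Characters.isGen_comp c.e.toMonoidHom (isGen_Vc i)

/-- The induced functions. -/
noncomputable def alpha (i : Fin 5) : G → ℂ := Cfsg.indFun c.H (c.W i)

theorem alpha_one (i : Fin 5) : c.alpha i 1 = 0 := by
  rw [alpha, Characters.indFun_one, W, map_one, Vc_zero (Or.inl cls_one), mul_zero]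

theorem alpha_inv (i : Fin 5) {g : G} (hg : g ∈ c.classSet tOne ∨ g ∈ c.classSet tTwo) :
    c.alpha i g = 0 := by
  have : ∀ x : G, Cfsg.extendByZero c.H (c.W i) (x⁻¹ * g * x) = 0 := fun x => by
    by_cases hm : x⁻¹ * g * x ∈ c.H
    · rw [extendByZero_of_mem c.H _ hm, W]
      refine Vc_zero ?_ i
      rcases hg with h | h
      · exact Or.inr (Or.inl (((c.mem_class_iff ⟨_, hm⟩).1).1
          (by simpa using c.invariant_classSet _ g h x⁻¹)))
      · exact Or.inr (Or.inr (((c.mem_class_iff ⟨_, hm⟩).2).1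
          (by simpa using c.invariant_classSet _ g h x⁻¹)))
    · exact extendByZero_of_not_mem c.H _ hm
  simp [alpha, Cfsg.indFun, this]

theorem alpha_apply (i : Fin 5) {x : c.H} (hx : InD (c.e x)) : c.alpha i x = c.W i x := by
  classical
  have hterm : ∀ g : G, Cfsg.extendByZero c.H (c.W i) (g⁻¹ * x * g) =
      if g ∈ c.H then c.W i x else 0 := by
    intro g
    split_ifs with hg
    · have hm : g⁻¹ * x * g ∈ c.H := mul_mem (mul_mem (inv_mem hg) x.2) hg
      rw [extendByZero_of_mem c.H _ hm]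
      rw [show (⟨g⁻¹ * x * g, hm⟩ : c.H) = (⟨g, hg⟩ : c.H)⁻¹ * x * ((⟨g, hg⟩ : c.H)⁻¹)⁻¹ from
          Subtype.ext (by simp)]
      exact isClassFunction_of_isGen (c.isGen_W i) x _
    · by_cases hm : g⁻¹ * x * g ∈ c.H
      · rw [extendByZero_of_mem c.H _ hm, W]
        rcases c.mem_of_D hx (g := g⁻¹) (by simpa using hm) with h | ⟨-, h⟩
        · exact absurd (by simpa using inv_mem h) hg
        · refine Vc_zero' ?_ i
          simpa using h
      · exact extendByZero_of_not_mem c.H _ hm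
  unfold alpha Cfsg.indFun
  rw [Finset.sum_congr rfl fun g _ => hterm g, ← Finset.sum_filter, Finset.sum_const,
    nsmul_eq_mul, ← Fintype.card_subtype, ← Nat.card_eq_fintype_card, ← mul_assoc]
  exact (congrArg (· * c.W i x) (inv_mul_cancel₀ (subgroup_card_ne_zero c.H))).trans (one_mul _)

theorem card_H : (Nat.card c.H : ℂ) = 648 := by
  rw [Nat.card_congr c.e.toEquiv, Nat.card_eq_fintype_card, card_M]
  norm_num

theorem classInner_alpha (i : Fin 5) {θ : G → ℂ} (hθ : Cfsg.IsClassFunction G θ) (f : M → ℂ)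
    (hf : ∀ h : c.H, InD (c.e h) → θ h = f (c.e h)) :
    Cfsg.classInner (c.alpha i) θ = (648 : ℂ)⁻¹ * ∑ m : M, Vc i m * conj (f m) := by
  rw [alpha, classInner_indFun c.H _ hθ, Cfsg.classInner, c.card_H,
    ← Fintype.sum_equiv c.e.toEquiv (fun h => Vc i (c.e h) * conj (f (c.e h))) _ fun _ => rfl]
  congr 1
  refine Finset.sum_congr rfl fun h _ => ?_
  by_cases hh : InD (c.e h)
  · rw [hf h hh, W]
  · rw [W, Vc_eq_zero hh, zero_mul, zero_mul]

theorem gram_alpha (i j : Fin 5) : Cfsg.classInner (c.alpha i) (c.alpha j) = gram i j := by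
  rw [c.classInner_alpha i (θ := c.alpha j) (isClassFunction_indFun _ _) (Vc j)
    fun h hh => by rw [c.alpha_apply j hh, W]]
  simp only [Vc_conj]
  rw [sum_Vc_mul i j _ _ (V_gram i j)]
  push_cast
  ring

theorem alpha_triv (i : Fin 5) : Cfsg.classInner (c.alpha i) (fun _ => 1) = triv i := by
  rw [c.classInner_alpha i (θ := fun _ => 1) (fun _ _ => rfl) (fun _ => 1) fun _ _ => rfl]
  simp only [map_one, mul_one]
  rw [sum_Vc Finset.univ i fun m => m, V_triv]
  push_cast
  ring

theorem alpha_linear (f : G →* ℂˣ) : Cfsg.classInner (c.alpha 2) (fun g => (f g : ℂ)) = 0 := by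
  set φ : M →* ℂˣ := f.comp (c.H.subtype.comp c.e.symm.toMonoidHom)
  rw [c.classInner_alpha 2 (θ := fun g => (f g : ℂ))
    (isClassFunction_of_isIrr (Characters.isIrr_linChar f)) (fun m => (φ m : ℂ))
    fun h _ => by simp [φ]]
  rcases hom_eq φ with h | h
  · simp only [h, map_one, mul_one]
    rw [sum_Vc Finset.univ 2 fun m => m, V_triv]
    simp [triv]
  · simp only [h, map_intCast]
    have e : ∑ m : M, Vc 2 m * (sign m : ℂ) =
        (((∑ m : M, sign m • V 2 m).1 : ℂ) +
          (∑ m : M, sign m • V 2 m).2 * (Real.sqrt 3 : ℝ)) / 2 := by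
      simp only [Vc, Prod.fst_sum, Prod.snd_sum, Prod.smul_fst, Prod.smul_snd, smul_eq_mul,
        Int.cast_sum, Finset.sum_mul, ← Finset.sum_add_distrib, Finset.sum_div]
      exact Finset.sum_congr rfl fun m _ => by push_cast; ring
    rw [e, V_two_sign]
    simp

/-- In `H` the pair count is that of `M`. -/
theorem pairs_of_mem {t t' : M} {A B : Finset M} (ht : t * t = 1) (ht' : t' * t' = 1)
    (hA : ∀ h : c.H, (h : G) ∈ c.classSet t ↔ c.e h ∈ A)
    (hB : ∀ h : c.H, (h : G) ∈ c.classSet t' ↔ c.e h ∈ B) {x : c.H} (hx : InD (c.e x)) :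
    pairs (c.classSet t) (c.classSet t') (x : G) = pairs A B (c.e x) := by
  classical
  have hkey : ∀ u : G, u * u = 1 → u * x * (u * x) = 1 → u ∈ c.H := fun u hu h => by
    have e1 : u * x * u⁻¹ = (x : G)⁻¹ := by
      rw [inv_eq_of_mul_eq_one_right hu]
      exact (inv_eq_of_mul_eq_one_left (by simpa [mul_assoc] using h)).symm
    have hm : u * x * u⁻¹ ∈ c.H := e1 ▸ inv_mem x.2
    refine (c.mem_of_D hx hm).resolve_right fun h2 => ?_
    rw [show (⟨_, hm⟩ : c.H) = x⁻¹ from Subtype.ext e1, map_inv] at h2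
    exact cls_inv_thirteen _ h2.1 h2.2
  rw [pairs, pairs]
  refine Finset.card_bij (fun u hu => c.e ⟨u, hkey u (c.classSet_sq ht (mem_pairSet.1 hu).1)
    (c.classSet_sq ht' (mem_pairSet.1 hu).2)⟩) (fun u hu => ?_) (fun a _ b _ e => ?_)
    fun m hm => ?_
  · obtain ⟨h1, h2⟩ := mem_pairSet.1 hu
    rw [mem_pairSet]
    refine ⟨(hA _).1 h1, ?_⟩
    rw [← map_mul]
    exact (hB _).1 h2
  · exact congrArg Subtype.val (c.e.injective e)
  · rw [mem_pairSet] at hm
    obtain ⟨h1, h2⟩ := hm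
    obtain ⟨u, rfl⟩ := c.e.surjective m
    rw [← map_mul] at h2
    exact ⟨u, mem_pairSet.2 ⟨(hA u).2 h1, (hB _).2 h2⟩, by simp⟩

theorem alpha_pairs {t t' : M} {A B : Finset M} (ht : t * t = 1) (ht' : t' * t' = 1)
    (hA : ∀ h : c.H, (h : G) ∈ c.classSet t ↔ c.e h ∈ A)
    (hB : ∀ h : c.H, (h : G) ∈ c.classSet t' ↔ c.e h ∈ B) (hA2 : ∀ a ∈ A, a * a = 1)
    (i : Fin 5) {z : ℤ} (hz : ∑ u ∈ A, ∑ w ∈ B, V i (u * w) = (z, 0)) :
    Cfsg.classInner (c.alpha i) (fun g => (pairs (c.classSet t) (c.classSet t') g : ℂ)) =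
      (z : ℂ) / 1296 := by
  rw [c.classInner_alpha i (pairs_isClassFunction (c.invariant_classSet t) (c.invariant_classSet t'))
    (fun m => (pairs A B m : ℂ)) fun h hh => by rw [c.pairs_of_mem ht ht' hA hB hh]]
  simp only [map_natCast]
  rw [sum_pairs hA2, ← Finset.sum_product' (f := fun u w => Vc i (u * w)),
    sum_Vc (A ×ˢ B) i fun p => p.1 * p.2, Finset.sum_product' (f := fun u w => V i (u * w)), hz]
  push_cast
  ring

end Setup

end CfsgLib.AltNineThree
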