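import Cfsg.Agent.AltNineThree.Group

/-!
# Tables for the group of order `648`

The fourteen classes, five class functions vanishing on the elements without a non-trivial power in
the elementary abelian `3`-subgroup, and monomial expressions for them.
-/

set_option autoImplicit false

namespace CfsgLib.AltNineThree

open CfsgLib.TISylowThree (D sgnHom act)

/-- A number for an element of `S₃`. -/
def code : D → ℕ
  | .r i => i.val
  | .sr i => 3 + i.val

/-- A number for an element of `W`. -/
def index (x : W) : ℕ :=
  ((code x.left.1 * 6 + code x.left.2.1) * 6 + code x.left.2.2) * 6 + code x.right

/-- The classes, four bits for each element. -/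
def classData : ℕ := 923337000414399435722116168392169697887112140770343403376976847927859329885819257196896109846940785704709521745589106023745796571488784391579946938948765123322470281189771171793343095496102341301761876997704180839849610228408097365060037878907441814184706910563279671041375842681991409308793333520269630120575574204863204460751719355525642661909172944408238848337845792983026030423639687747520335626642754274474071567325526889383138479338898484991354622012330743867864128033509149255316867215551130565756120261077718423114803557471152523289813942001158825733389064378001214216199357012466983678807126965256868877580512634042519145573965739858028771799781577862538500937560369692530057349143117762078085728399993281541447833764576009425683225920451983282189312240598064312986423900874215328959857717447188179298995873573881290998130343795020355450626539604247272126400436296120154006105425955281582118375176637426144291181831648361423673247710411387862755997360392441277863524425949209533178974880598285484605781655884125861594788978403812710626247888226738209743128250446032156109558188199467986393013802494289907638554292661431221843327829441666282437266581135091957407476028259139169800330159270879928256503709840531545235396442754476394747323601905435801534976233985759647285855347626898848197882480036136007111430429413106991962133915301536794506466978657533395256975162980331077984243179552802783908190767420495033146588904061804192418770834397529465925580513629286367496799443072564895842531401620131050875166581388767220188236577198612331828439741891104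

/-- The number of the class of an element. -/
def cls (m : M) : ℕ := (classData >>> (4 * index m.1)) % 16

/-- The values of `A, g, d, b, v`, doubled, as `a + b √3`. -/
def rows : List (List (ℤ × ℤ)) :=
  [ [(0, 0), (0, 0), (0, 0), (0, 0), (0, 0), (0, 0), (0, 0), (0, 0), (0, 0), (0, -4), (0, 4), (0, 0), (0, 0), (0, 0)],
    [(0, 0), (-18, 0), (0, 0), (0, 0), (0, 0), (0, 0), (0, 0), (0, 0), (6, 0), (0, 2), (0, -2), (0, 0), (-6, 0), (0, 0)],
    [(0, 0), (-6, 0), (0, 0), (0, 0), (0, 0), (0, 0), (0, 0), (0, 0), (0, 0), (0, -2), (0, 2), (-12, 0), (6, 0), (-18, 0)],
    [(0, 0), (-6, 0), (0, 0), (0, 0), (0, 0), (0, 0), (0, 0), (0, 0), (0, 0), (-6, 0), (-6, 0), (-12, 0), (-6, 0), (-18, 0)],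
    [(0, 0), (0, 0), (0, 0), (0, 0), (0, 0), (0, 0), (6, 0), (0, 0), (6, 0), (0, 0), (0, 0), (18, 0), (0, 0), (0, 0)]]

/-- The doubled values. -/
def V (i : Fin 5) (m : M) : ℤ × ℤ := (rows.getD i []).getD (cls m) (0, 0)

end CfsgLib.AltNineThree
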