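import Cfsg.Agent.AltNineThree.Conj

/-!
# Computed facts about the group of order `648`
-/

set_option autoImplicit false

namespace CfsgLib.AltNineThree

open CfsgLib.TISylowThree (D sgnHom act)

set_option maxRecDepth 100000

/-- The elements of the elementary abelian normal subgroup of order `27`. -/
def IsE (m : M) : Prop := m.1.right = 1 ∧ m * m * m = 1

instance : DecidablePred IsE := fun m => inferInstanceAs (Decidable (_ ∧ _))

/-- The elements with a non-trivial power in it. -/
def InD (m : M) : Prop :=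
  (m ≠ 1 ∧ IsE m) ∨ (m * m ≠ 1 ∧ IsE (m * m)) ∨ (m * m * m ≠ 1 ∧ IsE (m * m * m)) ∨
    (m * m * (m * m) ≠ 1 ∧ IsE (m * m * (m * m)))

instance : DecidablePred InD := fun m => inferInstanceAs (Decidable (_ ∨ _))

/-- The class of double flips. -/
def cl₁ : Finset M := Finset.univ.filter fun m => cls m = 3

/-- The class of block exchanges. -/
def cl₂ : Finset M := Finset.univ.filter fun m => cls m = 4

theorem card_M : Fintype.card M = 648 := by decide +kernel

theorem card_E : (Finset.univ.filter IsE).card = 27 := by decide +kernel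

theorem E_mul : ∀ a, IsE a → ∀ b, IsE b → IsE (a * b) ∧ a * b = b * a := by decide +kernel

theorem isE_iff : ∀ m : M, IsE m ↔ (cls m = 0 ∨ cls m = 1 ∨ cls m = 11 ∨ cls m = 13) := by
  decide +kernel

theorem E_conj (a : M) (ha : IsE a) (x : M) : IsE (x * a * x⁻¹) := by
  rw [isE_iff, cls_conj, ← isE_iff]; exact ha

theorem supp : ∀ m : M, InD m ∨
    (cls m = 0 ∨ cls m = 2 ∨ cls m = 3 ∨ cls m = 4 ∨ cls m = 7) := by decide +kernel

theorem V_supp (m : M) (i : Fin 5) (h : V i m ≠ (0, 0)) : InD m := by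
  refine (supp m).resolve_right fun hc => h ?_
  rcases hc with e | e | e | e | e <;> fin_cases i <;> simp [V, rows, e]

/-- The product in `ℤ[√3]`. -/
def qmul (x y : ℤ × ℤ) : ℤ × ℤ := (x.1 * y.1 + 3 * x.2 * y.2, x.1 * y.2 + x.2 * y.1)

/-- The Gram matrix. -/
def gram : Fin 5 → Fin 5 → ℤ :=
  ![![2, -1, 1, 0, 0], ![-1, 3, -1, 1, 1], ![1, -1, 3, 1, -1], ![0, 1, 1, 4, -1], ![0, 1, -1, -1, 4]]

/-- The multiplicity of the principal character. -/
def triv : Fin 5 → ℤ := ![0, 0, 0, -1, 1]

theorem V_gram : ∀ i j : Fin 5, ∑ m : M, qmul (V i m) (V j m) = (4 * 648 * gram i j, 0) := by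
  decide +kernel

theorem V_triv : ∀ i : Fin 5, ∑ m : M, V i m = (2 * 648 * triv i, 0) := by decide +kernel

theorem V_one : ∀ i : Fin 5, V i 1 = (0, 0) := by decide +kernel

/-! ### Elements given by their coordinates -/

/-- A rotation of the last block. -/
def eThree : M := el 1 1 (.r 1) 1

/-- Opposite rotations of two blocks. -/
def eMix : M := el (.r 1) (.r 1) 1 1

/-- A rotation of every block. -/
def eAll : M := el (.r 1) (.r 1) (.r 1) 1

theorem tOne_spec : tOne * tOne = 1 ∧ tOne ≠ 1 ∧ cls tOne = 3 ∧ tTwo * tTwo = 1 ∧ cls tTwo = 4 ∧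
    IsE eThree ∧ eThree ≠ 1 ∧ eThree * tOne = tOne * eThree ∧ IsE eMix ∧ eMix ≠ 1 ∧
    eMix * tTwo = tTwo * eMix ∧ IsE eOne ∧ eOne ≠ 1 := by
  decide +kernel

theorem cls_invol : ∀ m : M, (m * m = 1 ∧ m ≠ 1) ↔ (cls m = 3 ∨ cls m = 4) := by decide +kernel

theorem cls_tOne : cls tOne = 3 ∧ cls tTwo = 4 := by decide +kernel

theorem tOne_conj (h : M) : cls (h * tOne * h⁻¹) = 3 ∧ cls (h * tTwo * h⁻¹) = 4 := by
  rw [cls_conj, cls_conj]; exact cls_tOne

/-- The ninth power. -/
def nine (x : M) : M := x * x * x * (x * x * x) * (x * x * x)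

theorem pow_thirtySix : ∀ x : M, nine x * nine x * (nine x * nine x) = 1 := by decide +kernel

theorem nine_eq {x : M} (h : x ^ 81 = 1) : nine x = 1 := by
  have hn : nine x = x ^ 9 := by simp only [nine, pow_succ, pow_zero, one_mul, mul_assoc]
  have h36 : x ^ 36 = 1 := by
    rw [show 36 = 9 * 4 by rfl, pow_mul, ← hn]
    simpa only [pow_succ, pow_zero, one_mul, mul_assoc] using pow_thirtySix x
  rw [hn]
  simpa using pow_gcd_eq_one.2 ⟨h, h36⟩

/-- The `3`-elements commuting with `tTwo` are the powers of `eMix`. -/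
theorem three_cent_tTwo : ∀ x : M, x * tTwo = tTwo * x → nine x = 1 →
    x = 1 ∨ x = eMix ∨ x = eMix * eMix := by decide +kernel

end CfsgLib.AltNineThree
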