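import Cfsg.Agent.TISylowThree.Model
import Mathlib.GroupTheory.SemidirectProduct

/-!
# The group of order `648` inside `Alt 9`

`M` is the group of elements of `S₃ ≀ S₃` that act evenly on nine points.
-/

set_option autoImplicit false

namespace CfsgLib.AltNineThree

open CfsgLib.TISylowThree (D sgnHom act)

/-- Triples. -/
abbrev B := D × D × D

/-- A coordinate of a triple. -/
def get (a : B) : ZMod 3 → D
  | 0 => a.1
  | 1 => a.2.1
  | 2 => a.2.2

/-- A triple with given coordinates. -/
def mk (f : ZMod 3 → D) : B := (f 0, f 1, f 2)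

theorem get_mk (f : ZMod 3 → D) : ∀ k, get (mk f) k = f k
  | 0 => rfl
  | 1 => rfl
  | 2 => rfl

theorem get_mul (a b : B) : ∀ k, get (a * b) k = get a k * get b k
  | 0 => rfl
  | 1 => rfl
  | 2 => rfl

theorem get_one : ∀ k, get 1 k = 1
  | 0 => rfl
  | 1 => rfl
  | 2 => rfl

theorem ext_get {a b : B} (h : ∀ k, get a k = get b k) : a = b :=
  Prod.ext (h 0) (Prod.ext (h 1) (h 2))

/-- Permute the coordinates. -/
def tr (p : D) (a : B) : B := mk fun k => get a (act p⁻¹ k)

theorem tr_tr (p q : D) (a : B) : tr p (tr q a) = tr (p * q) a :=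
  ext_get fun k => by simp [tr, get_mk, Equiv.Perm.mul_apply]

theorem tr_one (a : B) : tr 1 a = a := ext_get fun k => by simp [tr, get_mk]

/-- The action on triples. -/
def perm : D →* MulAut B where
  toFun p :=
    { toFun := tr p
      invFun := tr p⁻¹
      left_inv := fun a => by rw [tr_tr, inv_mul_cancel, tr_one]
      right_inv := fun a => by rw [tr_tr, mul_inv_cancel, tr_one]
      map_mul' := fun a b => ext_get fun k => by simp [tr, get_mk, get_mul] }
  map_one' := MulEquiv.ext tr_one
  map_mul' p q := MulEquiv.ext fun a => (tr_tr p q a).symm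

/-- `S₃ ≀ S₃`. -/
abbrev W := B ⋊[perm] D

instance : Fintype W := Fintype.ofEquiv (B × D) SemidirectProduct.equivProd.symm

instance : DecidableEq W := fun x y =>
  decidable_of_iff (x.left = y.left ∧ x.right = y.right)
    ⟨fun h => SemidirectProduct.ext h.1 h.2, fun h => h ▸ ⟨rfl, rfl⟩⟩

/-- The sign on nine points. -/
def par (x : W) : ℤˣ := sgnHom x.left.1 * sgnHom x.left.2.1 * sgnHom x.left.2.2 * sgnHom x.right

theorem par_tr : ∀ (p : D) (a : B),
    sgnHom (tr p a).1 * sgnHom (tr p a).2.1 * sgnHom (tr p a).2.2 =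
      sgnHom a.1 * sgnHom a.2.1 * sgnHom a.2.2 := by decide +kernel

/-- The parity. -/
def parHom : W →* ℤˣ where
  toFun := par
  map_one' := by decide +kernel
  map_mul' x y := by
    have := par_tr x.right y.left
    simp only [par, SemidirectProduct.mul_left, SemidirectProduct.mul_right, Prod.fst_mul,
      Prod.snd_mul, map_mul]
    change _ * sgnHom (tr x.right y.left).1 * (_ * sgnHom (tr x.right y.left).2.1) *
      (_ * sgnHom (tr x.right y.left).2.2) * _ = _
    rw [show sgnHom (tr x.right y.left).2.2 = sgnHom (tr x.right y.left).1 *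
      sgnHom (tr x.right y.left).2.1 * (sgnHom y.left.1 * sgnHom y.left.2.1 * sgnHom y.left.2.2) by
        rw [← this]
        rcases Int.units_eq_one_or (sgnHom (tr x.right y.left).1) with h | h <;>
          rcases Int.units_eq_one_or (sgnHom (tr x.right y.left).2.1) with h' | h' <;> simp [h, h']]
    rcases Int.units_eq_one_or (sgnHom (tr x.right y.left).1) with h | h <;>
      rcases Int.units_eq_one_or (sgnHom (tr x.right y.left).2.1) with h' | h' <;>
        simp [h, h'] <;> ac_rfl

/-- The group of order `648`. -/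
abbrev M : Type := ↥(parHom.ker)

end CfsgLib.AltNineThree
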