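import Cfsg.Agent.AltNineThree.Facts
import Cfsg.Agent.Characters.Generalized

/-!
# Monomial expressions for the five class functions
-/

set_option autoImplicit false
set_option linter.unusedSectionVars false

namespace CfsgLib.AltNineThree

open CfsgLib.TISylowThree (D sgnHom act)

set_option maxRecDepth 100000

/-- Twice the real part of a twelfth root of unity, as `a + b √3`. -/
def reTable : ZMod 12 → ℤ × ℤ
  | 0 => (2, 0)
  | 1 => (0, 1)
  | 2 => (1, 0)
  | 3 => (0, 0)
  | 4 => (-1, 0)
  | 5 => (0, -1)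
  | 6 => (-2, 0)
  | 7 => (0, -1)
  | 8 => (-1, 0)
  | 9 => (0, 0)
  | 10 => (1, 0)
  | 11 => (0, 1)

/-- Twice a root of unity or zero: real and imaginary part. -/
def val : Option (ZMod 12) → (ℤ × ℤ) × (ℤ × ℤ)
  | none => 0
  | some k => (reTable k, reTable (k - 3))

/-- Is an element of `S₃` a reflection? -/
def flip : D → Bool
  | .r _ => false
  | .sr _ => true

/-- The rotation part relative to the last point of the block. -/
def rot (d : D) : ZMod 12 := ((act d 2 - 2 : ZMod 3).val : ZMod 12)

/-- The flips and the permutation of the blocks. -/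
abbrev Key := Bool × Bool × Bool × D

/-- A linear character of a subgroup containing the normal subgroup, as an exponent. -/
structure Datum where
  keys : List (Key × ZMod 12)
  wt : ZMod 12 × ZMod 12 × ZMod 12
  reps : List Key

/-- The exponent. -/
def Datum.ex (δ : Datum) (m : M) : Option (ZMod 12) :=
  (δ.keys.find? fun e =>
      e.1 == (flip m.1.left.1, flip m.1.left.2.1, flip m.1.left.2.2, m.1.right)).map fun e =>
    e.2 + δ.wt.1 * rot m.1.left.1 + δ.wt.2.1 * rot m.1.left.2.1 + δ.wt.2.2 * rot m.1.left.2.2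

/-- The element of the complement with a given key. -/
def ofKey (k : Key) : M :=
  el (cond k.1 (.sr 2) 1) (cond k.2.1 (.sr 2) 1) (cond k.2.2.1 (.sr 2) 1) k.2.2.2

/-- The transversal. -/
def Datum.tra (δ : Datum) : List M := δ.reps.map ofKey

/-- The doubled induced character. -/
def Datum.ind (δ : Datum) (m : M) : (ℤ × ℤ) × (ℤ × ℤ) :=
  (δ.tra.map fun t => val (δ.ex (t⁻¹ * m * t))).sum

/-- The four flips. -/
def flips : List (Bool × Bool × Bool) :=
  [(false, false, false), (true, true, false), (true, false, true), (false, true, true)]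

/-- The stabiliser of the first block. -/
def dihedral (sg : ZMod 12) (c : ZMod 12) : List (Key × ZMod 12) :=
  [((false, false, false, .r 0), 0), ((false, true, true, .r 0), 0), ((true, false, true, .r 0), c),
    ((true, true, false, .r 0), c), ((true, false, false, .sr 0), c + sg),
    ((false, true, false, .sr 0), sg), ((false, false, true, .sr 0), sg),
    ((true, true, true, .sr 0), c + sg)]

/-- The cyclic group of order four. -/
def cyclicFour (a : ZMod 12) : List (Key × ZMod 12) :=
  [((false, false, false, .r 0), 0), ((false, false, true, .sr 0), a),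
    ((false, true, true, .r 0), 2 * a), ((false, true, false, .sr 0), 3 * a)]

/-- Representatives for the cyclic group of order four. -/
def sixReps : List Key :=
  [(false, false, false, .r 0), (true, true, false, .r 0), (false, false, false, .r 1),
    (false, true, true, .r 1), (false, false, false, .r 2), (true, false, true, .r 2)]

/-- Representatives for the stabiliser of a block. -/
def threeReps : List Key :=
  [(false, false, false, .r 0), (false, false, false, .r 1), (false, false, false, .r 2)]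

/-- The eight monomial characters. -/
def datum : Fin 8 → Datum :=
  ![⟨cyclicFour 3, (4, 0, 0), sixReps⟩, ⟨cyclicFour 9, (4, 0, 0), sixReps⟩,
    ⟨cyclicFour 0, (4, 0, 0), sixReps⟩,
    ⟨[((false, false, false, .r 0), 0), ((false, false, false, .r 1), 4),
        ((false, false, false, .r 2), 8)], (4, 4, 4),
      [(false, false, false, .r 0), (true, true, false, .r 0), (true, false, true, .r 0),
        (false, true, true, .r 0), (false, false, true, .sr 2), (true, true, true, .sr 2),
        (true, false, false, .sr 2), (false, true, false, .sr 2)]⟩,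
    ⟨[((false, false, false, .r 0), 0), ((false, false, true, .sr 2), 0)], (4, 4, 0),
      flips.flatMap fun f => [(f.1, f.2.1, f.2.2, .r 0), (f.1, f.2.1, f.2.2, .r 1),
        (f.1, f.2.1, f.2.2, .r 2)]⟩,
    ⟨dihedral 0 0, (0, 0, 0), threeReps⟩, ⟨dihedral 0 6, (0, 0, 0), threeReps⟩,
    ⟨dihedral 6 6, (0, 0, 0), threeReps⟩]

/-- The expressions. -/
def combo : Fin 5 → List (ℤ × Fin 8) :=
  ![[(1, 0), (-1, 1)], [(1, 3), (-1, 0), (-1, 5)], [(1, 0), (-1, 6), (-1, 7)],
    [(1, 2), (-1, 5), (-1, 6)], [(1, 7), (-1, 4), (1, 3)]]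

/-- The constants. -/
def const : Fin 5 → ℤ := ![0, 1, 0, 0, 1]

/-- The doubled combination. -/
def comboVal (i : Fin 5) (m : M) : (ℤ × ℤ) × (ℤ × ℤ) :=
  ((combo i).map fun p => p.1 • (datum p.2).ind m).sum + ((2 * const i, 0), 0)

/-- The three rotations and the keys of a datum. -/
def Datum.gens (δ : Datum) : List M :=
  [eOne, gThree * eOne * gThree⁻¹, gThree * gThree * eOne * (gThree * gThree)⁻¹] ++
    δ.keys.map fun e => ofKey e.1

/-- The key of an element. -/
def key (m : M) : Key := (flip m.1.left.1, flip m.1.left.2.1, flip m.1.left.2.2, m.1.right)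

theorem split_key : ∀ m : M, m =
    eOne ^ expA (m * (ofKey (key m))⁻¹).1.left.1 *
      (gThree * eOne * gThree⁻¹) ^ expA (m * (ofKey (key m))⁻¹).1.left.2.1 *
      (gThree * gThree * eOne * (gThree * gThree)⁻¹) ^ expA (m * (ofKey (key m))⁻¹).1.left.2.2 *
      ofKey (key m) := by decide +kernel

theorem ex_one : ∀ j, (datum j).ex 1 = some 0 := by decide +kernel

/-- The multiplicativity of a datum on its generators. -/
def GenLaw (δ : Datum) : Prop :=
  ∀ g ∈ δ.gens, ∀ b : M, (δ.ex b).isSome →
    δ.ex (g * b) = (δ.ex g).bind fun x => (δ.ex b).map fun y => x + y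

instance (δ : Datum) : Decidable (GenLaw δ) :=
  inferInstanceAs (Decidable (∀ g ∈ δ.gens, ∀ b : M, _ → _))

theorem gens_some : ∀ j, ∀ g ∈ (datum j).gens, ((datum j).ex g).isSome := by decide +kernel

theorem genLaw0 : GenLaw (datum 0) := by decide +kernel

theorem genLaw1 : GenLaw (datum 1) := by decide +kernel

theorem genLaw2 : GenLaw (datum 2) := by decide +kernel

theorem genLaw3 : GenLaw (datum 3) := by decide +kernel

theorem genLaw4 : GenLaw (datum 4) := by decide +kernel

theorem genLaw5 : GenLaw (datum 5) := by decide +kernel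

theorem genLaw6 : GenLaw (datum 6) := by decide +kernel

theorem genLaw7 : GenLaw (datum 7) := by decide +kernel

theorem genLaw : ∀ j, GenLaw (datum j)
  | 0 => genLaw0
  | 1 => genLaw1
  | 2 => genLaw2
  | 3 => genLaw3
  | 4 => genLaw4
  | 5 => genLaw5
  | 6 => genLaw6
  | 7 => genLaw7

theorem ex_mul (j : Fin 8) (a : M) (ha : ((datum j).ex a).isSome) (b : M)
    (hb : ((datum j).ex b).isSome) :
    (datum j).ex (a * b) =
      ((datum j).ex a).bind fun x => ((datum j).ex b).map fun y => x + y := by
  let P : M → Prop := fun a => ((datum j).ex a).isSome ∧ ∀ b, ((datum j).ex b).isSome →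
    (datum j).ex (a * b) = ((datum j).ex a).bind fun x => ((datum j).ex b).map fun y => x + y
  have h1 : P 1 := ⟨by simp [ex_one], fun b _ => by simp [ex_one]⟩
  have hgen : ∀ g ∈ (datum j).gens, P g := fun g hg =>
    ⟨gens_some j g hg, fun b hb => genLaw j g hg b hb⟩
  have hmul : ∀ x y, P x → P y → P (x * y) := by
    intro x y hx hy
    obtain ⟨u, hu⟩ := Option.isSome_iff_exists.1 hx.1
    obtain ⟨v, hv⟩ := Option.isSome_iff_exists.1 hy.1
    have hxy : (datum j).ex (x * y) = some (u + v) := by rw [hx.2 y hy.1, hu, hv]; rfl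
    refine ⟨by simp [hxy], fun b hb => ?_⟩
    obtain ⟨w, hw⟩ := Option.isSome_iff_exists.1 hb
    have hyb : (datum j).ex (y * b) = some (v + w) := by rw [hy.2 b hb, hv, hw]; rfl
    rw [mul_assoc, hx.2 _ (by simp [hyb]), hyb, hxy, hu, hw]
    simp [add_assoc]
  have hpow : ∀ g ∈ (datum j).gens, ∀ n : ℕ, P (g ^ n) := by
    intro g hg n
    induction n with
    | zero => simpa using h1
    | succ n ih => rw [pow_succ]; exact hmul _ _ ih (hgen g hg)
  have hk : ofKey (key a) ∈ (datum j).gens := by
    refine List.mem_append_right _ (List.mem_map.2 ?_)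
    simp only [Datum.ex, Option.isSome_map] at ha
    obtain ⟨e, he⟩ := Option.isSome_iff_exists.1 ha
    exact ⟨e, List.mem_of_find?_eq_some he, congrArg ofKey (eq_of_beq (List.find?_some he :))⟩
  have hPa : P a := by
    rw [split_key a]
    exact hmul _ _ (hmul _ _ (hmul _ _ (hpow _ (by simp [Datum.gens]) _)
      (hpow _ (by simp [Datum.gens]) _)) (hpow _ (by simp [Datum.gens]) _)) (hgen _ hk)
  exact hPa.2 b hb

/-- The twenty-four keys. -/
def allKeys : List Key :=
  flips.flatMap fun f => [(f.1, f.2.1, f.2.2, .r 0), (f.1, f.2.1, f.2.2, .r 1),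
    (f.1, f.2.1, f.2.2, .r 2), (!f.1, f.2.1, f.2.2, .sr 0), (!f.1, f.2.1, f.2.2, .sr 1),
    (!f.1, f.2.1, f.2.2, .sr 2)]

theorem key_mem : ∀ m : M, key m ∈ allKeys := by decide +kernel

theorem cover_key : ∀ (j : Fin 8), ∀ k ∈ allKeys,
    ((datum j).tra.filter fun t => ((datum j).ex (t⁻¹ * ofKey k)).isSome).length = 1 := by
  decide +kernel

theorem tra_nodup : ∀ j, (datum j).tra.Nodup := by decide +kernel

theorem tra_conj : ∀ (j : Fin 8), ∀ t ∈ (datum j).tra, ∀ g ∈ [eOne, gThree * eOne * gThree⁻¹,
    gThree * gThree * eOne * (gThree * gThree)⁻¹], ((datum j).ex (t⁻¹ * g * t)).isSome := by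
  decide +kernel

theorem comboVal_rep : ∀ (c : Fin 14) (i : Fin 5), comboVal i (classRep c) = (V i (classRep c), 0) := by
  decide +kernel

/-! ### The complex values -/

/-- A twelfth root of unity. -/
noncomputable def zeta : ℂ := ((Real.sqrt 3 : ℝ) + Complex.I) / 2

/-- The complex number of a doubled value. -/
noncomputable def emb (p : (ℤ × ℤ) × (ℤ × ℤ)) : ℂ :=
  ((p.1.1 : ℂ) + p.1.2 * (Real.sqrt 3 : ℝ) +
    Complex.I * ((p.2.1 : ℂ) + p.2.2 * (Real.sqrt 3 : ℝ))) / 2

theorem emb_add (p q : (ℤ × ℤ) × (ℤ × ℤ)) : emb (p + q) = emb p + emb q := by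
  simp [emb]; ring

theorem emb_zero : emb 0 = 0 := by simp [emb]

theorem emb_smul (c : ℤ) (p : (ℤ × ℤ) × (ℤ × ℤ)) : emb (c • p) = (c : ℂ) * emb p := by
  simp [emb]; ring

theorem emb_sum : ∀ l : List ((ℤ × ℤ) × (ℤ × ℤ)), emb l.sum = (l.map emb).sum
  | [] => by simp [emb_zero]
  | x :: l => by simp [emb_add, emb_sum l]

theorem sqrt_sq : ((Real.sqrt 3 : ℝ) : ℂ) ^ 2 = 3 := by
  rw [← Complex.ofReal_pow, Real.sq_sqrt (by norm_num)]; norm_num

/-- The root of unity with a given exponent. -/
noncomputable def root (k : ZMod 12) : ℂ := emb (val (some k))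

theorem root_succ (k : ZMod 12) : root (k + 1) = root k * zeta := by
  have h : ∀ k : ZMod 12, (2 : ℤ) • val (some (k + 1)) =
      ((3 * (val (some k)).1.2 - (val (some k)).2.1, (val (some k)).1.1 - (val (some k)).2.2),
        ((val (some k)).1.1 + 3 * (val (some k)).2.2, (val (some k)).1.2 + (val (some k)).2.1)) := by
    decide +kernel
  have h2 := congrArg emb (h k)
  rw [emb_smul] at h2
  simp only [root] at h2 ⊢
  rw [show (((2 : ℤ) : ℂ)) = 2 by norm_num] at h2
  refine mul_left_cancel₀ (two_ne_zero (α := ℂ)) (h2.trans ?_)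
  simp only [emb, zeta]
  push_cast
  linear_combination
    (-((val (some k)).1.2 + Complex.I * (val (some k)).2.2) / 2 : ℂ) * sqrt_sq +
      (-((val (some k)).2.1 + (val (some k)).2.2 * (Real.sqrt 3 : ℝ)) / 2 : ℂ) * Complex.I_sq

theorem root_zero : root 0 = 1 := by
  rw [root, show val (some 0) = ((2, 0), (0, 0)) by decide +kernel]
  simp [emb]

theorem root_add_nat (a : ZMod 12) : ∀ n : ℕ, root (a + n) = root a * zeta ^ n
  | 0 => by simp
  | n + 1 => by rw [Nat.cast_succ, ← add_assoc, root_succ, root_add_nat a n, pow_succ, mul_assoc]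

theorem root_add (a b : ZMod 12) : root (a + b) = root a * root b := by
  have hb : root b = zeta ^ b.val := by
    have := root_add_nat 0 b.val
    rwa [zero_add, ZMod.natCast_zmod_val, root_zero, one_mul] at this
  rw [hb, ← root_add_nat, ZMod.natCast_zmod_val]

/-- The extension by zero of a monomial datum. -/
noncomputable def ext (j : Fin 8) (m : M) : ℂ := emb (val ((datum j).ex m))

/-- The subgroup. -/
def sub (j : Fin 8) : Subgroup M where
  carrier := {m | ((datum j).ex m).isSome}
  one_mem' := by simp [ex_one]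
  mul_mem' {a b} ha hb := by
    simp only [Set.mem_setOf_eq] at ha hb ⊢
    rw [ex_mul j a ha b hb]
    obtain ⟨x, hx⟩ := Option.isSome_iff_exists.1 ha
    obtain ⟨y, hy⟩ := Option.isSome_iff_exists.1 hb
    simp [hx, hy]
  inv_mem' {a} ha := by
    have hp : ∀ n : ℕ, ((datum j).ex (a ^ n)).isSome := by
      intro n
      induction n with
      | zero => simp [ex_one]
      | succ n ih =>
        rw [pow_succ, ex_mul j _ ih a ha]
        obtain ⟨x, hx⟩ := Option.isSome_iff_exists.1 ih
        obtain ⟨y, hy⟩ := Option.isSome_iff_exists.1 ha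
        simp [hx, hy]
    have : a⁻¹ = a ^ (orderOf a - 1) := by
      refine inv_eq_of_mul_eq_one_right ?_
      rw [← pow_succ', Nat.sub_add_cancel (orderOf_pos a), pow_orderOf_eq_one]
    simpa [this] using hp _

/-- The linear character. -/
noncomputable def lin (j : Fin 8) : sub j →* ℂ where
  toFun x := ext j x
  map_one' := by
    have h : ((1 : sub j) : M) = 1 := rfl
    rw [ext, h, ex_one]
    exact root_zero
  map_mul' x y := by
    obtain ⟨a, ha⟩ := Option.isSome_iff_exists.1 x.2
    obtain ⟨b, hb⟩ := Option.isSome_iff_exists.1 y.2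
    simp only [ext, Subgroup.coe_mul, ex_mul j _ x.2 _ y.2, ha, hb]
    exact root_add a b

theorem extendByZero_lin (j : Fin 8) (m : M) :
    Cfsg.extendByZero (sub j) (fun x => lin j x) m = ext j m := by
  by_cases h : m ∈ sub j
  · exact Characters.extendByZero_of_mem _ _ h
  · rw [Characters.extendByZero_of_not_mem _ _ h, ext]
    rw [Option.not_isSome_iff_eq_none.1 h]
    exact emb_zero.symm

theorem ind_eq (j : Fin 8) (g : M) :
    Cfsg.indFun (sub j) (fun x => lin j x) g = emb ((datum j).ind g) := by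
  classical
  set L := sub j
  set T := (datum j).tra.toFinset
  have hone : ∀ x : M, (T.filter fun t => t⁻¹ * x ∈ L).card = 1 := fun x => by
    have h := cover_key j _ (key_mem x)
    rw [← List.toFinset_card_of_nodup ((tra_nodup j).filter _), List.toFinset_filter] at h
    refine (congrArg Finset.card (Finset.filter_congr fun t ht => ?_)).trans h
    set w := x * (ofKey (key x))⁻¹ with hw
    have hwt : t⁻¹ * w * t ∈ L := by
      have hg := tra_conj j t (List.mem_toFinset.1 ht)
      set g₁ := gThree * eOne * gThree⁻¹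
      set g₂ := gThree * gThree * eOne * (gThree * gThree)⁻¹
      have hsp : w = eOne ^ expA w.1.left.1 * g₁ ^ expA w.1.left.2.1 * g₂ ^ expA w.1.left.2.2 := by
        refine mul_right_cancel (b := ofKey (key x)) ?_
        conv_lhs => rw [hw, inv_mul_cancel_right]
        exact split_key x
      rw [hsp, show t⁻¹ * (eOne ^ expA w.1.left.1 * g₁ ^ expA w.1.left.2.1 *
          g₂ ^ expA w.1.left.2.2) * t = (t⁻¹ * eOne * t) ^ expA w.1.left.1 *
          (t⁻¹ * g₁ * t) ^ expA w.1.left.2.1 * (t⁻¹ * g₂ * t) ^ expA w.1.left.2.2 by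
        have hc : ∀ (y : M) (n : ℕ), (t⁻¹ * y * t) ^ n = t⁻¹ * y ^ n * t := fun y n => by
          simpa using conj_pow (i := n) (a := t⁻¹) (b := y)
        simp only [hc]; group]
      exact L.mul_mem (L.mul_mem (L.pow_mem (hg _ (by simp)) _) (L.pow_mem (hg _ (by simp)) _))
        (L.pow_mem (hg _ (by simp)) _)
    show t⁻¹ * x ∈ L ↔ t⁻¹ * ofKey (key x) ∈ L
    rw [show t⁻¹ * x = t⁻¹ * w * t * (t⁻¹ * ofKey (key x)) by rw [hw]; group]
    exact ⟨fun h => (L.mul_mem_cancel_left hwt).1 h, fun h => L.mul_mem hwt h⟩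
  have hinv : ∀ (l : L) (y : M), ext j ((l : M)⁻¹ * y * l) = ext j y := by
    intro l y
    by_cases hy : y ∈ L
    · have h1 := map_mul (lin j) (l⁻¹ * ⟨y, hy⟩) l
      have h2 := map_mul (lin j) l⁻¹ ⟨y, hy⟩
      have h3 : lin j l⁻¹ * lin j l = 1 := by rw [← map_mul, inv_mul_cancel, map_one]
      change lin j (l⁻¹ * ⟨y, hy⟩ * l) = lin j ⟨y, hy⟩
      rw [h1, h2, mul_comm (lin j l⁻¹), mul_assoc, h3, mul_one]
    · have hy' : (l : M)⁻¹ * y * l ∉ L := fun h => hy (by
        have := L.mul_mem (L.mul_mem l.2 h) (L.inv_mem l.2)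
        simpa [mul_assoc] using this)
      rw [← extendByZero_lin, ← extendByZero_lin, Characters.extendByZero_of_not_mem _ _ hy,
        Characters.extendByZero_of_not_mem _ _ hy']
  have hsum : ∑ x : M, Cfsg.extendByZero L (fun x => lin j x) (x⁻¹ * g * x) =
      (Nat.card L : ℂ) * ∑ t ∈ T, ext j (t⁻¹ * g * t) := by
    calc ∑ x : M, Cfsg.extendByZero L (fun x => lin j x) (x⁻¹ * g * x)
        = ∑ x : M, ∑ t ∈ T, (if t⁻¹ * x ∈ L then ext j (x⁻¹ * g * x) else 0) := by
          refine Finset.sum_congr rfl fun x _ => ?_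
          rw [← Finset.sum_filter, Finset.sum_const, hone x, one_smul, extendByZero_lin]
      _ = ∑ t ∈ T, ∑ y : M, (if y ∈ L then ext j ((t * y)⁻¹ * g * (t * y)) else 0) := by
          rw [Finset.sum_comm]
          refine Finset.sum_congr rfl fun t _ => (Fintype.sum_equiv (Equiv.mulLeft t) _ _ fun y => ?_).symm
          simp [mul_assoc]
      _ = _ := by
          rw [Finset.mul_sum]
          refine Finset.sum_congr rfl fun t _ => ?_
          rw [← Finset.sum_filter, Finset.sum_congr rfl fun y hy => show _ = ext j (t⁻¹ * g * t) by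
            rw [← hinv ⟨y, (Finset.mem_filter.1 hy).2⟩ (t⁻¹ * g * t)]
            congr 1
            group, Finset.sum_const, nsmul_eq_mul, ← Fintype.card_subtype,
            ← Nat.card_eq_fintype_card]
  rw [Cfsg.indFun, hsum, ← mul_assoc, inv_mul_cancel₀ (Characters.subgroup_card_ne_zero L), one_mul,
    Datum.ind, emb_sum, List.map_map, List.sum_toFinset _ (tra_nodup j)]
  rfl

/-- The complex class functions. -/
noncomputable def Vc (i : Fin 5) (m : M) : ℂ :=
  ((V i m).1 + (V i m).2 * (Real.sqrt 3 : ℝ)) / 2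

theorem isGen_Vc (i : Fin 5) : Cfsg.IsGeneralizedCharacter M (Vc i) := by
  have hj : ∀ j, Cfsg.IsGeneralizedCharacter M fun m => emb ((datum j).ind m) := fun j => by
    have hl : Cfsg.IsGeneralizedCharacter (sub j) fun x => lin j x := by
      have h := Characters.isGen_of_isIrr (Characters.isIrr_linChar (lin j).toHomUnits)
      simpa using h
    rw [show (fun m => emb ((datum j).ind m)) = Cfsg.indFun (sub j) (fun x => lin j x) from
      (funext (ind_eq j)).symm]
    exact Characters.isGen_indFun (sub j) hl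
  have hlist : ∀ l : List (ℤ × Fin 8), Cfsg.IsGeneralizedCharacter M
      fun m => emb (l.map fun p => p.1 • (datum p.2).ind m).sum := by
    intro l
    induction l with
    | nil =>
      convert Characters.isGen_zero (G := M) using 1
      funext m
      simp [emb_zero]
    | cons p l ih =>
      convert Characters.isGen_add (Characters.isGen_zsmul (hj p.2) p.1) ih using 1
      funext m
      rw [List.map_cons, List.sum_cons, emb_add, emb_smul]
      rfl
  have hc := Characters.isGen_zsmul (Characters.isGen_one (G := M)) (const i)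
  have := Characters.isGen_add (hlist (combo i)) hc
  convert this using 1
  funext m
  obtain ⟨k, x, rfl⟩ := exists_conj_rep m
  have hcl := Characters.isClassFunction_of_isGen this
  rw [hcl (classRep k) x]
  have hV : Vc i (x * classRep k * x⁻¹) = Vc i (classRep k) := by simp only [Vc, V, cls_conj]
  rw [hV]
  have h : emb ((V i (classRep k)), 0) = Vc i (classRep k) := by simp [emb, Vc]
  rw [← h, ← comboVal_rep, comboVal, emb_add]
  simp only [Pi.add_apply, Pi.smul_apply, smul_eq_mul, mul_one, add_right_inj]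
  simp [emb]

theorem Vc_conj (i : Fin 5) (m : M) : starRingEnd ℂ (Vc i m) = Vc i m := by
  simp [Vc, map_div₀, map_ofNat]

theorem sum_Vc_mul (i j : Fin 5) (a b : ℤ)
    (h : ∑ m : M, qmul (V i m) (V j m) = (a, b)) :
    ∑ m : M, Vc i m * Vc j m = ((a : ℂ) + b * (Real.sqrt 3 : ℝ)) / 4 := by
  have h1 : ((∑ m : M, (qmul (V i m) (V j m)).1 : ℤ) : ℂ) = a := by rw [← Prod.fst_sum, h]
  have h2 : ((∑ m : M, (qmul (V i m) (V j m)).2 : ℤ) : ℂ) = b := by rw [← Prod.snd_sum, h]
  rw [← h1, ← h2]
  simp only [qmul]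
  push_cast
  rw [Finset.sum_mul, ← Finset.sum_add_distrib, Finset.sum_div]
  refine Finset.sum_congr rfl fun m _ => ?_
  rw [Vc, Vc]
  linear_combination ((V i m).2 * (V j m).2 / 4 : ℂ) * sqrt_sq

theorem sum_Vc {α : Type*} (s : Finset α) (i : Fin 5) (f : α → M) :
    ∑ x ∈ s, Vc i (f x) =
      (((∑ x ∈ s, V i (f x)).1 : ℂ) + (∑ x ∈ s, V i (f x)).2 * (Real.sqrt 3 : ℝ)) / 2 := by
  simp only [Vc, Prod.fst_sum, Prod.snd_sum, Int.cast_sum, Finset.sum_mul,
    ← Finset.sum_add_distrib, Finset.sum_div]

theorem Vc_eq_zero {i : Fin 5} {m : M} (h : ¬ InD m) : Vc i m = 0 := by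
  have : V i m = (0, 0) := not_not.1 fun hne => h (V_supp m i hne)
  simp [Vc, this]

end CfsgLib.AltNineThree
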