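import Cfsg.Agent.AltNineThree.Facts

/-!
# Products of two involutions
-/

set_option autoImplicit false

namespace CfsgLib.AltNineThree

open CfsgLib.TISylowThree (D)

set_option maxRecDepth 100000
set_option synthInstance.maxHeartbeats 200000
set_option synthInstance.maxSize 1024

/-- Twice the inner products with the pair counts of two classes of involutions, times `648`. -/
def thetaA : Fin 5 → ℤ := ![0, -3888, 0, -3888, 1944]

/-- See `thetaA`. -/
def thetaB : Fin 5 → ℤ := ![0, 0, -3888, -7776, 5832]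

/-- See `thetaA`. -/
def thetaC : Fin 5 → ℤ := ![0, 0, 0, -3888, 1944]

theorem V_thetaA : ∀ i : Fin 5, ∑ u ∈ cl₁, ∑ w ∈ cl₁, V i (u * w) = (thetaA i, 0) := by
  decide +kernel

theorem V_thetaB : ∀ i : Fin 5, ∑ u ∈ cl₂, ∑ w ∈ cl₂, V i (u * w) = (thetaB i, 0) := by
  decide +kernel

theorem V_thetaC : ∀ i : Fin 5, ∑ u ∈ cl₁, ∑ w ∈ cl₂, V i (u * w) = (thetaC i, 0) := by
  decide +kernel

end CfsgLib.AltNineThree
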