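import Cfsg.Agent.AltNineThree.Orbits
import Cfsg.Agent.AltNineThree.Theta
import Cfsg.Agent.AltNineThree.Monomial
import Cfsg.Agent.AltNineThree.Words
import Cfsg.Agent.ClassPairs.Basic

/-!
# The subgroup `H` inside `G`

Control of fusion by `H` and the two classes of involutions.
-/

set_option autoImplicit false
set_option linter.unusedSectionVars false

namespace CfsgLib.AltNineThree

universe u

variable {G : Type u} [Group G]

/-- The hypotheses. -/
structure Setup (G : Type u) [Group G] where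
  H : Subgroup G
  e : H ≃* M
  cent : ∀ h : H, IsE (e h) → h ≠ 1 → Subgroup.centralizer ({(h : G)} : Set G) ≤ H
  closed : ∀ h : H, IsE (e h) → ∀ (g : G) (hm : g * h * g⁻¹ ∈ H),
    IsE (e ⟨_, hm⟩) ∨ cls (e h) = 13 ∧ cls (e ⟨_, hm⟩) = 2

theorem centCard_conj (h a : M) : centCard (h * a * h⁻¹) = centCard a := by
  refine Finset.card_equiv ((Equiv.mulLeft h⁻¹).trans (Equiv.mulRight h)) fun x => ?_
  simp only [Finset.mem_filter, Finset.mem_univ, true_and, Equiv.trans_apply, Equiv.coe_mulLeft,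
    Equiv.coe_mulRight]
  constructor
  · intro hx
    have := congrArg (fun y => h⁻¹ * y * h) hx
    simpa [mul_assoc] using this
  · intro hx
    have := congrArg (fun y => h * y * h⁻¹) hx
    simpa [mul_assoc] using this

theorem conj_of_centCard {a b : M} (ha : IsE a) (ha1 : a ≠ 1) (hb : IsE b) (hb1 : b ≠ 1)
    (h : centCard a = centCard b) : ∃ k : M, k * a * k⁻¹ = b := by
  obtain ⟨r1, r2, r3⟩ := centCard_rep
  have key : ∀ r k l : M, k * r * k⁻¹ = a → l * r * l⁻¹ = b → ∃ m : M, m * a * m⁻¹ = b :=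
    fun r k l e1 e2 => ⟨l * k⁻¹, by rw [← e1, ← e2]; group⟩
  obtain ⟨k, hk⟩ := E_conj_rep a ha ha1
  obtain ⟨l, hl⟩ := E_conj_rep b hb hb1
  rcases hk with hk | hk | hk <;> rcases hl with hl | hl | hl <;>
    first
      | exact key _ k l hk hl
      | (rw [← hk, ← hl, centCard_conj, centCard_conj] at h; omega)

theorem cls_eThree : cls eThree = 1 := by decide +kernel

theorem roots_thirteen : ∀ m : M, (cls (m * m) = 13 → IsE m ∧ m ≠ 1) ∧
    (cls (m * m * (m * m)) = 13 → IsE m ∧ m ≠ 1) := by decide +kernel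

theorem cls_cube : ∀ m : M, cls (m * m * m) ≠ 2 := by decide +kernel

namespace Setup

variable (c : Setup G)

theorem eq_one_iff {h : c.H} : c.e h = 1 ↔ h = 1 := map_eq_one_iff c.e c.e.injective

theorem card_centralizer {j : c.H} (hj : IsE (c.e j)) (h1 : j ≠ 1) :
    Nat.card {x : G // x * j = j * x} = centCard (c.e j) := by
  have hin : ∀ x : G, x * j = j * x → x ∈ c.H := fun x hx =>
    c.cent j hj h1 (Subgroup.mem_centralizer_singleton_iff.2 hx)
  rw [centCard, ← Fintype.card_subtype, ← Nat.card_eq_fintype_card]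
  refine Nat.card_congr
    { toFun := fun x => ⟨c.e ⟨x, hin x x.2⟩, by
        rw [← map_mul, ← map_mul]; exact congrArg c.e (Subtype.ext x.2)⟩
      invFun := fun m => ⟨(c.e.symm m.1 : c.H), by
        have := congrArg c.e.symm m.2
        simp only [map_mul, MulEquiv.symm_apply_apply] at this
        exact congrArg Subtype.val this⟩
      left_inv := fun x => by simp
      right_inv := fun m => by simp }

/-- An element conjugating a non-trivial element of the elementary abelian subgroup into that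
subgroup lies in `H`. -/
theorem mem_of_E' {j : c.H} (hj : IsE (c.e j)) (h1 : j ≠ 1) {g : G} (hm : g * j * g⁻¹ ∈ c.H)
    (hj' : IsE (c.e ⟨_, hm⟩)) : g ∈ c.H := by
  have h1' : (⟨_, hm⟩ : c.H) ≠ 1 := fun e => h1 (Subtype.ext (by
    simpa using congrArg Subtype.val e))
  have hcard : Nat.card {x : G // x * j = j * x} =
      Nat.card {x : G // x * (g * j * g⁻¹) = g * j * g⁻¹ * x} := by
    refine Nat.card_congr (Equiv.subtypeEquiv (MulAut.conj g).toEquiv fun x => ?_)
    have : (MulAut.conj g) x * (g * j * g⁻¹) = g * j * g⁻¹ * (MulAut.conj g) x ↔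
        x * j = j * x := by
      simp only [MulAut.conj_apply, mul_assoc, inv_mul_cancel_left, mul_right_inj]
      rw [← mul_assoc, ← mul_assoc, mul_left_inj]
    exact this.symm
  rw [c.card_centralizer hj h1, c.card_centralizer (j := ⟨_, hm⟩) hj' h1'] at hcard
  obtain ⟨k, hk⟩ := conj_of_centCard hj (fun e => h1 (c.eq_one_iff.1 e)) hj'
    (fun e => h1' (c.eq_one_iff.1 e)) hcard
  set k' := c.e.symm k
  have hk' : (k' : G) * j * (k' : G)⁻¹ = g * j * g⁻¹ := by
    have := congrArg c.e.symm hk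
    simp only [map_mul, map_inv, MulEquiv.symm_apply_apply] at this
    simpa [k'] using congrArg Subtype.val this
  have hcomm : (k' : G)⁻¹ * g * j = j * ((k' : G)⁻¹ * g) := by
    calc (k' : G)⁻¹ * g * j = (k' : G)⁻¹ * (g * j * g⁻¹) * g := by group
      _ = j * ((k' : G)⁻¹ * g) := by rw [← hk']; group
  have := c.H.mul_mem k'.2 (c.cent j hj h1 (Subgroup.mem_centralizer_singleton_iff.2 hcomm))
  simpa using this

/-- `H` controls the fusion of the elements of the elementary abelian subgroup outside the class of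
`eAll`. -/
theorem mem_of_E {j : c.H} (hj : IsE (c.e j)) (h13 : cls (c.e j) ≠ 13) (h1 : j ≠ 1) {g : G}
    (hm : g * j * g⁻¹ ∈ c.H) : g ∈ c.H :=
  c.mem_of_E' hj h1 hm ((c.closed j hj g hm).resolve_right fun h => h13 h.1)

/-- `H` controls the fusion of `D`, but for conjugates in the class of the block rotations. -/
theorem mem_of_D {x : c.H} (hx : InD (c.e x)) {g : G} (hm : g * x * g⁻¹ ∈ c.H) :
    g ∈ c.H ∨ cls (c.e x) = 13 ∧ cls (c.e ⟨_, hm⟩) = 2 := by
  have key : ∀ y : c.H, c.e y ≠ 1 → IsE (c.e y) → ∀ hy : g * y * g⁻¹ ∈ c.H,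
      g ∈ c.H ∨ cls (c.e y) = 13 ∧ cls (c.e ⟨_, hy⟩) = 2 := fun y h1 hy h => by
    rcases c.closed y hy g h with h' | h'
    · exact Or.inl (c.mem_of_E' hy (fun e => h1 (c.eq_one_iff.2 e)) h h')
    · exact Or.inr h'
  have h2 : g * ((x : G) * x) * g⁻¹ ∈ c.H := by
    simpa [mul_assoc] using c.H.mul_mem hm hm
  have h3 : g * ((x : G) * x * x) * g⁻¹ ∈ c.H := by
    simpa [mul_assoc] using c.H.mul_mem h2 hm
  have h4 : g * ((x : G) * x * ((x : G) * x)) * g⁻¹ ∈ c.H := by
    simpa [mul_assoc] using c.H.mul_mem h2 h2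
  rcases hx with ⟨h1, h⟩ | ⟨h1, h⟩ | ⟨h1, h⟩ | ⟨h1, h⟩
  · exact key x h1 h hm
  · rcases key (x * x) (by rwa [map_mul]) (by rwa [map_mul]) h2 with h' | ⟨e13, -⟩
    · exact Or.inl h'
    · exact key x ((roots_thirteen (c.e x)).1 (by rwa [← map_mul])).2
        ((roots_thirteen (c.e x)).1 (by rwa [← map_mul])).1 hm
  · rcases key (x * x * x) (by rwa [map_mul, map_mul]) (by rwa [map_mul, map_mul]) h3 with h' | ⟨-, e2⟩
    · exact Or.inl h'
    · refine absurd ?_ (cls_cube (c.e ⟨_, hm⟩))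
      rw [← map_mul, ← map_mul]
      refine Eq.trans ?_ e2
      congr 2
      exact Subtype.ext (by simp [mul_assoc])
  · rcases key (x * x * (x * x)) (by rwa [map_mul, map_mul]) (by rwa [map_mul, map_mul]) h4 with
      h' | ⟨e13, -⟩
    · exact Or.inl h'
    · exact key x ((roots_thirteen (c.e x)).2 (by rwa [← map_mul, ← map_mul])).2
        ((roots_thirteen (c.e x)).2 (by rwa [← map_mul, ← map_mul])).1 hm

/-- An element of `H` given in `M`. -/
def el' (m : M) : G := (c.e.symm m : c.H)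

theorem el'_mem (m : M) : c.el' m ∈ c.H := (c.e.symm m).2

theorem e_el' (m : M) (h : c.el' m ∈ c.H) : c.e ⟨c.el' m, h⟩ = m := c.e.apply_symm_apply m

theorem el'_mul (a b : M) : c.el' (a * b) = c.el' a * c.el' b := by simp [el']

theorem el'_one : c.el' 1 = 1 := by simp [el']

theorem el'_inv (a : M) : c.el' a⁻¹ = (c.el' a)⁻¹ := by simp [el']

theorem el'_inj {a b : M} (h : c.el' a = c.el' b) : a = b :=
  c.e.symm.injective (Subtype.ext h)

theorem nine_of_pow {h : c.H} {n : ℕ} (hn : h ^ 3 ^ n = 1) : nine (c.e h) = 1 := by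
  refine nine_eq ?_
  rw [← orderOf_dvd_iff_pow_eq_one]
  have h1 : orderOf (c.e h) ∣ 3 ^ n := orderOf_dvd_of_pow_eq_one (by rw [← map_pow, hn, map_one])
  obtain ⟨i, -, hi⟩ := (Nat.dvd_prime_pow Nat.prime_three).1 h1
  have h2 := orderOf_dvd_card (x := c.e h)
  rw [card_M, hi] at h2
  rw [hi]
  refine pow_dvd_pow (n := 4) 3 ?_
  by_contra hlt
  have := Nat.le_of_dvd (by norm_num) ((pow_dvd_pow 3 (show 5 ≤ i by omega)).trans h2)
  have h5 : ¬ (243 ∣ 648) := by norm_num
  exact h5 ((pow_dvd_pow 3 (show 5 ≤ i by omega)).trans h2)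

variable [Finite G]

/-- The two classes of involutions of `H` do not fuse. -/
theorem not_fused (g : G) : g * c.el' tOne * g⁻¹ ≠ c.el' tTwo := by
  intro hg
  obtain ⟨-, -, -, -, -, hjE, hj1, hjt, hkE, hk1, hkt, -, -⟩ := tOne_spec
  haveI : Fact (Nat.Prime 3) := ⟨Nat.prime_three⟩
  set C : Subgroup G := Subgroup.centralizer ({c.el' tTwo} : Set G)
  have hkC : c.el' eMix ∈ C := Subgroup.mem_centralizer_singleton_iff.2 (by
    rw [← el'_mul, ← el'_mul, hkt])
  set K : Subgroup C := Subgroup.zpowers ⟨c.el' eMix, hkC⟩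
  have hk3 : c.el' eMix ^ 3 = 1 := by
    rw [pow_succ, pow_succ, pow_one, ← el'_mul, ← el'_mul, hkE.2, el'_one]
  have hKmem : ∀ y : C, y ∈ K → (y : G) ∈ c.H ∧ ((y : G) = 1 ∨ (y : G) = c.el' eMix ∨
      (y : G) = c.el' (eMix * eMix)) := by
    intro y hy
    obtain ⟨z, rfl⟩ := Subgroup.mem_zpowers_iff.1 hy
    push_cast
    rw [zpow_eq_zpow_emod' z hk3]
    simp only [Nat.cast_ofNat]
    have h0 := Int.emod_nonneg z (show (3 : ℤ) ≠ 0 by norm_num)
    have h3 := Int.emod_lt_of_pos z (show (0 : ℤ) < 3 by norm_num)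
    rcases (show z % 3 = 0 ∨ z % 3 = 1 ∨ z % 3 = 2 by omega) with e | e | e <;> simp only [e]
    · exact ⟨by simp, Or.inl (zpow_zero _)⟩
    · rw [zpow_one]; exact ⟨c.el'_mem _, Or.inr (Or.inl rfl)⟩
    · rw [zpow_two, ← el'_mul]; exact ⟨c.el'_mem _, Or.inr (Or.inr rfl)⟩
  have hKp : IsPGroup 3 K := by
    refine IsPGroup.of_card (n := 1) ?_
    rw [Nat.card_zpowers, pow_one]
    refine orderOf_eq_prime (Subtype.ext (by simpa using hk3)) fun e => hk1 ?_
    exact c.el'_inj (by rw [el'_one]; simpa using congrArg Subtype.val e)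
  obtain ⟨P, hP⟩ := hKp.exists_le_sylow
  have hPK : (P : Subgroup C) = K := by
    refine le_antisymm ?_ hP
    by_contra hlt
    haveI : Group.IsNilpotent (P : Subgroup C) := P.2.isNilpotent
    have hnc := Group.normalizerCondition_of_isNilpotent (G := (P : Subgroup C)) (K.subgroupOf P)
      (lt_top_iff_ne_top.2 fun ht => hlt (Subgroup.subgroupOf_eq_top.1 ht))
    refine hnc.2 fun x hx => Subgroup.mem_subgroupOf.2 ?_
    have hkP : (⟨c.el' eMix, hkC⟩ : C) ∈ (P : Subgroup C) := hP (Subgroup.mem_zpowers _)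
    have hconj : (x : C) * ⟨c.el' eMix, hkC⟩ * (x : C)⁻¹ ∈ K :=
      Subgroup.mem_subgroupOf.1 ((Subgroup.mem_normalizer_iff.1 hx ⟨_, hkP⟩).1
        (Subgroup.mem_subgroupOf.2 (Subgroup.mem_zpowers _)))
    have hxH : ((x : C) : G) ∈ c.H := by
      refine c.mem_of_E (j := c.e.symm eMix) (by simpa using hkE) (by simp [cls_eMix.2.1])
        (fun e => hk1 ?_) ?_
      · simpa using congrArg c.e e
      · simpa [el'] using (hKmem _ hconj).1
    obtain ⟨n, hn⟩ := P.2 x
    have hn' : (⟨_, hxH⟩ : c.H) ^ 3 ^ n = 1 := Subtype.ext (by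
      simpa using congrArg (fun y : (P : Subgroup C) => ((y : C) : G)) hn)
    have hcomm : c.e ⟨_, hxH⟩ * tTwo = tTwo * c.e ⟨_, hxH⟩ := by
      apply c.e.symm.injective
      refine Subtype.ext ?_
      simpa [el'] using Subgroup.mem_centralizer_singleton_iff.1 (x : C).2
    rcases three_cent_tTwo _ hcomm (c.nine_of_pow hn') with h | h | h
    · have : (x : C) = 1 := Subtype.ext (by
        simpa using congrArg Subtype.val (c.eq_one_iff.1 h))
      rw [this]; exact K.one_mem
    · have hx' := congrArg (fun m => c.el' m) h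
      simp only [el', MulEquiv.symm_apply_apply] at hx'
      rw [show (x : C) = ⟨c.el' eMix, hkC⟩ from Subtype.ext hx']
      exact Subgroup.mem_zpowers _
    · have hx' := congrArg (fun m => c.el' m) h
      rw [el'_mul] at hx'
      simp only [el', MulEquiv.symm_apply_apply] at hx'
      rw [show (x : C) = ⟨c.el' eMix, hkC⟩ * ⟨c.el' eMix, hkC⟩ from Subtype.ext hx']
      exact K.mul_mem (Subgroup.mem_zpowers _) (Subgroup.mem_zpowers _)
  have hjC : g * c.el' eThree * g⁻¹ ∈ C := by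
    refine Subgroup.mem_centralizer_singleton_iff.2 ?_
    rw [← hg]
    calc g * c.el' eThree * g⁻¹ * (g * c.el' tOne * g⁻¹)
        = g * (c.el' eThree * c.el' tOne) * g⁻¹ := by group
      _ = g * (c.el' tOne * c.el' eThree) * g⁻¹ := by rw [← el'_mul, hjt, el'_mul]
      _ = g * c.el' tOne * g⁻¹ * (g * c.el' eThree * g⁻¹) := by group
  set j' : C := ⟨_, hjC⟩
  have hj'3 : j' ^ 3 = 1 := by
    refine Subtype.ext ?_
    simp only [j', SubmonoidClass.coe_pow, OneMemClass.coe_one, conj_pow]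
    rw [pow_succ, pow_succ, pow_one, ← el'_mul, ← el'_mul, hjE.2, el'_one]
    group
  have hjp : IsPGroup 3 (Subgroup.zpowers j') := fun x => ⟨1, by
    obtain ⟨z, hz⟩ := Subgroup.mem_zpowers_iff.1 x.2
    refine Subtype.ext ?_
    rw [SubmonoidClass.coe_pow, ← hz, pow_one, ← zpow_natCast, ← zpow_mul, mul_comm, zpow_mul,
      zpow_natCast, hj'3, one_zpow]
    rfl⟩
  obtain ⟨Q, hQ⟩ := hjp.exists_le_sylow
  obtain ⟨y, hy⟩ := MulAction.exists_smul_eq C Q P
  have hmem : y * j' * y⁻¹ ∈ K := by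
    rw [← hPK, ← hy]
    exact Subgroup.smul_mem_pointwise_smul _ (MulAut.conj y) _ (hQ (Subgroup.mem_zpowers _))
  have hygH : (y : G) * g ∈ c.H := by
    refine c.mem_of_E (j := c.e.symm eThree) (by simpa using hjE) (by simp [cls_eThree])
      (fun e => hj1 ?_) ?_
    · simpa using congrArg c.e e
    · simpa [el', j', mul_assoc] using (hKmem _ hmem).1
  have hfin : c.e ⟨_, hygH⟩ * tOne * (c.e ⟨_, hygH⟩)⁻¹ = tTwo := by
    apply c.e.symm.injective
    refine Subtype.ext ?_
    simp only [map_mul, map_inv, MulEquiv.symm_apply_apply, Subgroup.coe_mul, Subgroup.coe_inv]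
    change (y : G) * g * c.el' tOne * ((y : G) * g)⁻¹ = c.el' tTwo
    have := Subgroup.mem_centralizer_singleton_iff.1 y.2
    calc (y : G) * g * c.el' tOne * ((y : G) * g)⁻¹
        = y * (g * c.el' tOne * g⁻¹) * (y : G)⁻¹ := by group
      _ = c.el' tTwo := by rw [hg, this, mul_inv_cancel_right]
  have h3 := (tOne_conj (c.e ⟨_, hygH⟩)).1
  rw [hfin, tOne_spec.2.2.2.2.1] at h3
  omega

end Setup

end CfsgLib.AltNineThree
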